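import Cfsg.Agent.SuzukiU.Setup
import Cfsg.Agent.Linear.Basic
import Cfsg.Agent.EPPOFour.Main
import Cfsg.Agent.Forms4.UnitaryCenter
import Cfsg.Agent.Forms.UThreeTwo
import Mathlib.FieldTheory.Finite.GaloisField

/-!
# Which rank one group has the right order
-/

set_option autoImplicit false

namespace CfsgLib.SuzukiU

theorem two_pow_eq {a b u v : ℕ} (hu : Odd u) (hv : Odd v) (h : 2 ^ a * u = 2 ^ b * v) :
    a = b ∧ u = v := by
  have hu0 : u ≠ 0 := fun e => by subst e; simp at hu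
  have hv0 : v ≠ 0 := fun e => by subst e; simp at hv
  have ha := congrArg (fun m : ℕ => m.factorization 2) h
  simp only [Nat.factorization_mul (pow_ne_zero a two_ne_zero) hu0,
    Nat.factorization_mul (pow_ne_zero b two_ne_zero) hv0, Finsupp.add_apply,
    Nat.Prime.factorization_pow Nat.prime_two, Finsupp.single_eq_same,
    Nat.factorization_eq_zero_of_not_dvd hu.not_two_dvd_nat,
    Nat.factorization_eq_zero_of_not_dvd hv.not_two_dvd_nat, add_zero] at ha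
  subst ha
  exact ⟨rfl, Nat.eq_of_mul_eq_mul_left (by positivity) h⟩

theorem odd_two_pow_sub {m : ℕ} (hm : 1 ≤ m) : Odd (2 ^ m - 1) :=
  Nat.Even.sub_odd Nat.one_le_two_pow (even_two.pow_of_ne_zero (by omega)) odd_one

theorem odd_two_pow_add {m : ℕ} (hm : 1 ≤ m) : Odd (2 ^ m + 1) :=
  (even_two.pow_of_ne_zero (by omega)).add_one

/-- The order of the group, in the form `2^{3n}` times an odd number. -/
theorem order_eq {n : ℕ} :
    ((2 ^ n) ^ 3 + 1) * (2 ^ n) ^ 3 * ((2 ^ n) ^ 2 - 1) =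
      2 ^ (3 * n) * ((2 ^ (3 * n) + 1) * (2 ^ (2 * n) - 1)) := by
  rw [← pow_mul, ← pow_mul, mul_comm n 3, mul_comm n 2]; ring

theorem no_psl {n m : ℕ} (hn : 1 ≤ n) (hm : 1 ≤ m) {i : ℕ} (hi : Odd i) :
    2 ^ m * ((2 ^ m) ^ 2 - 1) * i ≠ ((2 ^ n) ^ 3 + 1) * (2 ^ n) ^ 3 * ((2 ^ n) ^ 2 - 1) := by
  intro h
  rw [order_eq, ← pow_mul, mul_assoc] at h
  obtain ⟨rfl, h⟩ := two_pow_eq ((odd_two_pow_sub (by omega)).mul hi)
    ((odd_two_pow_add (by omega)).mul (odd_two_pow_sub (by omega))) h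
  have e : 2 ^ (3 * n * 2) - 1 = (2 ^ (3 * n) + 1) * (2 ^ (3 * n) - 1) := by
    rw [pow_mul, sq, ← Nat.mul_self_sub_mul_self_eq, mul_one]
  rw [e, mul_assoc] at h
  have h' := Nat.eq_of_mul_eq_mul_left (by positivity) h
  have h1 : 2 ^ (2 * n) < 2 ^ (3 * n) := Nat.pow_lt_pow_right (by norm_num) (by omega)
  have h2 : 2 ^ (3 * n) - 1 ≤ (2 ^ (3 * n) - 1) * i := Nat.le_mul_of_pos_right _ hi.pos
  have h3 := Nat.one_le_two_pow (n := 2 * n)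
  omega

theorem no_sz {n m : ℕ} (hn : 1 ≤ n) (hm : 1 ≤ m) {i : ℕ} (hi : Odd i) :
    (2 ^ (2 * m + 1)) ^ 2 * ((2 ^ (2 * m + 1)) ^ 2 + 1) * (2 ^ (2 * m + 1) - 1) * i ≠
      ((2 ^ n) ^ 3 + 1) * (2 ^ n) ^ 3 * ((2 ^ n) ^ 2 - 1) := by
  intro h
  rw [order_eq, ← pow_mul, mul_assoc, mul_assoc] at h
  obtain ⟨hmn, h⟩ := two_pow_eq ((odd_two_pow_add (by omega)).mul ((odd_two_pow_sub (by omega)).mul hi))
    ((odd_two_pow_add (by omega)).mul (odd_two_pow_sub (by omega))) h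
  rw [hmn] at h
  have h1 : (2 ^ (2 * m + 1) - 1) * i = 2 ^ (2 * n) - 1 :=
    Nat.eq_of_mul_eq_mul_left (by positivity) h
  have h2 : 2 ^ (2 * m + 1) - 1 ∣ 2 ^ (2 * n) - 1 := ⟨i, h1.symm⟩
  have h3 := Nat.gcd_eq_left h2
  rw [Nat.pow_sub_one_gcd_pow_sub_one] at h3
  have h4 : Nat.gcd (2 * m + 1) (2 * n) = 2 * m + 1 := by
    refine Nat.pow_right_injective le_rfl ?_
    have := Nat.one_le_two_pow (n := Nat.gcd (2 * m + 1) (2 * n))
    have := Nat.one_le_two_pow (n := 2 * m + 1)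
    show 2 ^ _ = 2 ^ _
    omega
  obtain ⟨c, hc⟩ : 2 * m + 1 ∣ 2 * n := h4 ▸ Nat.gcd_dvd_right _ _
  rcases c with - | c
  · omega
  · rcases c with - | c
    · omega
    · nlinarith

theorem psu_exponent {n m : ℕ} (hn : 1 ≤ n) (hm : 1 ≤ m) {i X d : ℕ} (hi : Odd i) (hd : Odd d)
    (hX : d * ((2 ^ m + 1) * X) = (2 ^ m) ^ 3 * ((2 ^ m + 1) * ((2 ^ m) ^ 2 - 1) * ((2 ^ m) ^ 3 + 1)))
    (h : X * i = ((2 ^ n) ^ 3 + 1) * (2 ^ n) ^ 3 * ((2 ^ n) ^ 2 - 1)) : m = n ∧ i = d := by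
  have hX' : d * X = (2 ^ m) ^ 3 * (((2 ^ m) ^ 2 - 1) * ((2 ^ m) ^ 3 + 1)) := by
    refine Nat.eq_of_mul_eq_mul_left (show 0 < 2 ^ m + 1 from Nat.succ_pos _) ?_
    linear_combination hX
  have h' : (2 ^ m) ^ 3 * (((2 ^ m) ^ 2 - 1) * ((2 ^ m) ^ 3 + 1)) * i =
      d * (((2 ^ n) ^ 3 + 1) * (2 ^ n) ^ 3 * ((2 ^ n) ^ 2 - 1)) := by rw [← hX', ← h]; ring
  rw [order_eq, ← pow_mul, ← pow_mul, mul_comm m 3, mul_comm m 2, mul_assoc, mul_left_comm d] at h'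
  obtain ⟨hmn, h2⟩ := two_pow_eq
    (((odd_two_pow_sub (by omega)).mul (odd_two_pow_add (by omega))).mul hi)
    (hd.mul ((odd_two_pow_add (by omega)).mul (odd_two_pow_sub (by omega)))) h'
  obtain rfl : m = n := by omega
  refine ⟨rfl, ?_⟩
  have hpos : 0 < (2 ^ (2 * m) - 1) * (2 ^ (3 * m) + 1) :=
    Nat.mul_pos (odd_two_pow_sub (by omega)).pos (Nat.succ_pos _)
  exact Nat.eq_of_mul_eq_mul_left hpos (h2.trans (by ring))

theorem card_psu3 {F : Type*} [Field F] [Fintype F] {q : ℕ} (hF : Fintype.card F = q ^ 2) :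
    Nat.gcd 3 (q + 1) * ((q + 1) * Nat.card (Cfsg.PSU 3 F q)) =
      q ^ 3 * ((q + 1) * (q ^ 2 - 1) * (q ^ 3 + 1)) := by
  have h := (Subgroup.center (Cfsg.SU 3 F q)).card_eq_card_quotient_mul_card_subgroup
  rw [CfsgLib.Forms4.card_center_SU hF (by norm_num)] at h
  rw [mul_left_comm, mul_comm (Nat.gcd 3 (q + 1)), ← h,
    CfsgLib.Forms4.card_SU_mul_GU hF (by omega), CfsgLib.Forms.card_GU hF 3]
  simp [Finset.sum_range_succ, Finset.prod_range_succ, CfsgLib.Forms.u_succ]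

variable {F : Type*} [Field F] [Fintype F] [CharP F 2] {q : ℕ}

/-- Only `PSU₃(q)` fits. -/
theorem exists_psu_iso {G : Type*} [Group G] [Finite G] (hF : Fintype.card F = q ^ 2)
    (hG : Nat.card G = (q ^ 3 + 1) * q ^ 3 * (q ^ 2 - 1)) {L : Subgroup G} (hodd : Odd L.index)
    (h : (∃ (K : Type) (_ : Field K) (_ : Fintype K),
        (∃ n : ℕ, 2 ≤ n ∧ Fintype.card K = 2 ^ n) ∧
          Nonempty (L ≃* Matrix.ProjectiveSpecialLinearGroup (Fin 2) K)) ∨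
      Cfsg.Lie.IsoSuzuki L ∨
      (∃ (K : Type) (_ : Field K) (_ : Fintype K) (n : ℕ), 2 ≤ n ∧ Fintype.card K = (2 ^ n) ^ 2 ∧
          Nonempty (L ≃* Cfsg.PSU 3 K (2 ^ n)))) :
    Nonempty (L ≃* Cfsg.PSU 3 F q) ∧ L.index = Nat.gcd 3 (q + 1) := by
  obtain ⟨n, hn, rfl⟩ := exists_pow_eq hF
  have hLi := L.card_mul_index
  rw [hG] at hLi
  rcases h with ⟨K, iK, iT, ⟨m, hm, hK⟩, ⟨e⟩⟩ | ⟨K, iK, iT, m, hm, hK, ⟨e⟩⟩ |
      ⟨K, iK, iT, m, hm, hK, ⟨e⟩⟩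
  · exfalso
    rw [Nat.card_congr e.toEquiv, CfsgLib.Linear.card_PSL_two_even
      (hK ▸ even_two.pow_of_ne_zero (by omega)), hK] at hLi
    exact no_psl hn (by omega) hodd hLi
  · exfalso
    rw [Nat.card_congr e.toEquiv, CfsgLib.EPPOFour.card_lie_sz hm hK, hK] at hLi
    exact no_sz hn hm hodd hLi
  · rw [Nat.card_congr e.toEquiv] at hLi
    have hd : Odd (Nat.gcd 3 (2 ^ m + 1)) :=
      Odd.of_dvd_nat (by norm_num) (Nat.gcd_dvd_left 3 _)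
    obtain ⟨rfl, hi⟩ := psu_exponent hn (by omega) hodd hd (card_psu3 hK) hLi
    obtain ⟨f⟩ := CfsgLib.Forms.UThreeTwo.nonempty_psu_equiv
      (FiniteField.ringEquivOfCardEq (K := K) (K' := F) (hK.trans hF.symm)) 3 (2 ^ m)
    exact ⟨⟨e.trans f⟩, hi⟩

end CfsgLib.SuzukiU
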