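import Cfsg.Agent.SuzukiU.Model

/-!
# Odd automorphisms fixing a root group pointwise are inner-diagonal
-/

set_option autoImplicit false
set_option linter.unusedSectionVars false

namespace CfsgLib.SuzukiU

open Matrix CfsgLib.AutPSU

variable {F : Type*} [Field F] [Fintype F] [CharP F 2] {q : ℕ} (hF : Fintype.card F = q ^ 2)

/-- The transvections at `(1,1,0)` inside `SU₃`. -/
noncomputable def transvSU (c : F) (hc : c ^ q = c) : ↥(Cfsg.SU 3 F q) :=
  ⟨⟨(transvEl hF c hc).1.1, by
    show (stabMat q (1 + c) 0 1).det = 1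
    have h2 : (2 : F) = 0 := CharTwo.two_eq_zero
    simp [stabMat, Matrix.det_fin_three]
    grind⟩, mem_SU_iff'.2 (mem_GU_iff.1 (transvEl hF c hc).2)⟩

theorem transvSU_val (c : F) (hc : c ^ q = c) :
    (transvSU hF c hc).1.1 = stabMat q (1 + c) 0 1 := rfl

theorem transvSU_eq_one_iff (c : F) (hc : c ^ q = c) :
    (QuotientGroup.mk (transvSU hF c hc) : Cfsg.PSU 3 F q) = 1 → c = 0 := by
  intro h
  have h1 := (QuotientGroup.eq_one_iff _).1 h
  obtain ⟨n, hn, hq⟩ := exists_pow_eq hF
  have hq0 : q ≠ 0 := hq ▸ by positivity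
  have hconj : conjSU (suToGU (transvSU hF c hc)) = 1 := by
    rw [conjSU_suToGU]
    ext1 s
    rw [MulAut.conj_apply, ← Subgroup.mem_center_iff.1 h1 s, mul_inv_cancel_right]
    rfl
  obtain ⟨u, -, hu⟩ := (conjSU_eq_one_iff hF le_rfl).1 hconj
  have h2 : (2 : F) = 0 := CharTwo.two_eq_zero
  have := congrFun (congrFun (congrArg (fun g : GL (Fin 3) F => g.1) hu) 0) 1
  simp [suToGU_val, transvSU_val, stabMat, Matrix.GeneralLinearGroup.scalar] at this
  grind

theorem transvSU_mul_self (c : F) (hc : c ^ q = c) :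
    transvSU hF c hc * transvSU hF c hc = 1 := by
  obtain ⟨n, hn, hq⟩ := exists_pow_eq hF
  have hq0 : q ≠ 0 := hq ▸ by positivity
  have h2 : (2 : F) = 0 := CharTwo.two_eq_zero
  refine Subtype.ext (Subtype.ext ?_)
  show (stabMat q (1 + c) 0 1) * (stabMat q (1 + c) 0 1) = 1
  rw [stabMat_mul_stabMat hF (one_pow _)]
  ext i j
  fin_cases i <;> fin_cases j <;> simp [stabMat, zero_pow hq0] <;> grind

theorem transvSU_comm (c d : F) (hc : c ^ q = c) (hd : d ^ q = d) :
    transvSU hF c hc * transvSU hF d hd = transvSU hF d hd * transvSU hF c hc := by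
  refine Subtype.ext (Subtype.ext ?_)
  show (stabMat q (1 + c) 0 1) * (stabMat q (1 + d) 0 1) = (stabMat q (1 + d) 0 1) * (stabMat q (1 + c) 0 1)
  rw [stabMat_mul_stabMat hF (one_pow _), stabMat_mul_stabMat hF (one_pow _)]
  congr 1
  ring

/-- If a semilinear automorphism fixes the transvections at `(1,1,0)`, its field part fixes the
subfield of order `q`. -/
theorem field_fixed {g : ↥(Cfsg.GU 3 F q)} {σ : F ≃+* F}
    (h : ∀ (c : F) (hc : c ^ q = c), semiAut g σ (QuotientGroup.mk (transvSU hF c hc)) =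
      QuotientGroup.mk (transvSU hF c hc)) {c : F} (hc : c ^ q = c) : σ c = c := by
  obtain ⟨n, hn, hq⟩ := exists_pow_eq hF
  have hq0 : q ≠ 0 := hq ▸ by positivity
  have h2 : (2 : F) = 0 := CharTwo.two_eq_zero
  -- the identity holds in `SU`
  have key : ∀ (d : F) (hd : d ^ q = d),
      g.1.1 * stabMat q (1 + σ d) 0 1 = stabMat q (1 + d) 0 1 * g.1.1 := by
    intro d hd
    have h0 := h d hd
    rw [semiAut, toPSUAut_mk, MulAut.mul_apply] at h0
    set T := transvSU hF d hd with hT
    set U := conjSU g (fieldSU σ T) with hU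
    have hz : U⁻¹ * T ∈ Subgroup.center ↥(Cfsg.SU 3 F q) := QuotientGroup.eq.1 h0
    have hUU : U * U = 1 := by
      rw [hU, ← map_mul, ← map_mul, hT, transvSU_mul_self, map_one, map_one]
    have hUT : U = T := by
      set z := U⁻¹ * T with hzdef
      have hz2 : z * z = 1 := by
        calc z * z = U⁻¹ * T * z := rfl
          _ = U⁻¹ * (T * z) := mul_assoc _ _ _
          _ = U⁻¹ * (z * T) := by rw [Subgroup.mem_center_iff.1 hz T]
          _ = (U * U)⁻¹ * (T * T) := by rw [hzdef]; group
          _ = 1 := by rw [hUU, hT, transvSU_mul_self, inv_one, mul_one]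
      obtain ⟨u, -, hu⟩ := (conjSU_eq_one_iff hF le_rfl (g := suToGU z)).1 (by
        rw [conjSU_suToGU]
        ext1 s
        rw [MulAut.conj_apply, ← Subgroup.mem_center_iff.1 hz s, mul_inv_cancel_right]
        rfl)
      have hu' : z.1.1 = (u : F) • 1 := by
        rw [← suToGU_val, hu]
        simp [Matrix.GeneralLinearGroup.scalar, Matrix.smul_one_eq_diagonal]
      have h11 : (z * z).1.1 = 1 := by rw [hz2]; rfl
      rw [Subgroup.coe_mul, Matrix.SpecialLinearGroup.coe_mul, hu'] at h11
      have := congrFun (congrFun h11 0) 0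
      simp at this
      have hu1 : (u : F) = 1 := by
        have e : ((u : F) + 1) ^ 2 = 0 := by grind
        have := eq_zero_of_pow_eq_zero e
        grind
      have hz1 : z = 1 := Subtype.ext (Subtype.ext (by rw [hu', hu1, one_smul]; rfl))
      exact inv_mul_eq_one.1 hz1
    have hval := congrArg (fun s : ↥(Cfsg.SU 3 F q) => s.1.1 * g.1.1) hUT
    simp only [hU, conjSU_coe] at hval
    rw [Matrix.mul_assoc, show (g.1⁻¹ : GL (Fin 3) F).1 * g.1.1 = 1 from g.1.inv_mul, mul_one] at hval
    rw [hT, transvSU_val] at hval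
    rw [← hval]
    congr 1
    show _ = (transvSU hF d hd).1.1.map σ
    rw [transvSU_val]
    ext i j
    fin_cases i <;> fin_cases j <;> simp [stabMat, zero_pow hq0]
  by_contra hne
  -- the image of `(1,1,0)` would vanish
  have k1 := key 1 (one_pow q)
  rw [map_one] at k1
  have kc := key c hc
  have hne' : c + σ c ≠ 0 := fun e => hne (by grind)
  have e0 : ∀ i, g.1.1 i 0 + g.1.1 i 1 = 0 := by
    intro i
    have p := congrFun (congrFun k1 i) 0
    have r := congrFun (congrFun kc i) 0
    fin_cases i <;> simp [stabMat, Matrix.mul_apply, Fin.sum_univ_three, zero_pow hq0] at p r ⊢ <;>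
      grind
  have hdet : g.1.1.det = 0 := by
    rw [Matrix.det_fin_three]
    have := e0 0; have := e0 1; have := e0 2
    grind
  exact (Matrix.isUnit_iff_isUnit_det _ |>.1 g.1.isUnit).ne_zero hdet

/-- The square of such an automorphism is inner-diagonal. -/
theorem sq_mem_range {β : MulAut (Cfsg.PSU 3 F q)} (hq : q ≠ 2)
    (h : ∀ (c : F) (hc : c ^ q = c), β (QuotientGroup.mk (transvSU hF c hc)) =
      QuotientGroup.mk (transvSU hF c hc)) :
    β * β ∈ (innDiagHom (F := F) (n := 3) (q := q)).range := by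
  obtain ⟨g, σ, rfl⟩ := exists_semiAut hF le_rfl (fun h => hq h.2) β
  have hfix : ∀ c : F, c ^ q = c → σ c = c := fun c hc => field_fixed hF h hc
  have hσ : σ * σ = 1 := by
    refine RingEquiv.ext fun x => ?_
    show σ (σ x) = x
    have ht : σ (x + x ^ q) = x + x ^ q := hfix _ (by rw [pow_q_add hF, pow_q_q hF, add_comm])
    have hn : σ (x ^ (q + 1)) = x ^ (q + 1) := hfix _ (norm_fixed hF x)
    rw [map_add, map_pow] at ht
    rw [map_pow, pow_succ, pow_succ] at hn
    have hprod : (σ x + x) * (σ x + x ^ q) = 0 := by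
      have h2 : (2 : F) = 0 := CharTwo.two_eq_zero
      grind
    rcases mul_eq_zero.1 hprod with e | e
    · rw [CharTwo.add_eq_zero.1 e, CharTwo.add_eq_zero.1 e]
    · rw [CharTwo.add_eq_zero.1 e, map_pow, CharTwo.add_eq_zero.1 e, pow_q_q hF]
  refine ⟨g * mapGU σ g, ?_⟩
  rw [semiAut, ← map_mul, innDiagHom_apply]
  congr 1
  calc conjSU (g * mapGU σ g) = conjSU g * conjSU (mapGU σ g) * fieldSU (σ * σ) := by
        rw [hσ, map_one, mul_one, map_mul]
    _ = conjSU g * (fieldSU σ * conjSU g) * fieldSU σ := by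
        rw [fieldSU_mul_conjSU, map_mul fieldSU]; simp only [mul_assoc]
    _ = _ := by simp only [mul_assoc]

/-- Inner automorphisms are inner-diagonal. -/
theorem conj_mem_range (x : Cfsg.PSU 3 F q) :
    MulAut.conj x ∈ (innDiagHom (F := F) (n := 3) (q := q)).range := by
  induction x using QuotientGroup.induction_on with
  | H h => exact ⟨suToGU h, by rw [innDiagHom_apply, conjSU_suToGU, toPSUAut_conj]⟩

include hF in
theorem innDiag_ker (hq : q ≠ 2) :
    (innDiagHom (F := F) (n := 3) (q := q)).ker = Subgroup.center ↥(Cfsg.GU 3 F q) := by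
  ext g
  rw [MonoidHom.mem_ker, innDiagHom_apply, map_eq_one_iff _
    (toPSUAut_injective hF le_rfl fun h => hq h.2), conjSU_eq_one_iff hF le_rfl]
  constructor
  · rintro ⟨u, -, hu⟩
    refine (mem_center_GU_iff hF).2 ⟨(u : F), ?_⟩
    rw [hu]
    simp [Matrix.GeneralLinearGroup.scalar, Matrix.smul_one_eq_diagonal]
  · intro hg
    obtain ⟨x, hx, hxg⟩ := RootClasses.exists_scalar_of_mem_center_GU hF (by norm_num) hg
    exact ⟨x, mem_normOne.2 (Units.ext (by rw [Units.val_pow_eq_pow_val, hx, Units.val_one])),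
      hxg.symm⟩

end CfsgLib.SuzukiU
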