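import Cfsg.Agent.SuzukiU.Arith
import Cfsg.Agent.SuzukiU.InnDiag

/-!
# The characterisation of `PGU₃(2ⁿ)`, given the classification of rank one set-ups
-/

set_option autoImplicit false
set_option linter.unusedSectionVars false
set_option linter.style.haveILetI false

namespace CfsgLib.SuzukiU

open CfsgLib.SEmbed CfsgLib.Small

universe u

theorem mem_of_pow_eq_one_coprime {G : Type*} [Group G] (L : Subgroup G) [L.Normal] {x : G}
    {a : ℕ} (hx : x ^ a = 1) (h : a.Coprime L.index) : x ∈ L :=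
  mem_of_pow_mem (hx ▸ one_mem L) (L.pow_index_mem x) h

variable {G : Type u} [Group G] [Finite G] {Ω : Type u} [MulAction G Ω]
  {F : Type*} [Field F] [Fintype F] [CharP F 2] {q : ℕ}

/-- Recognition inside the automorphism group. -/
theorem Frame.iso_of_psu (Φ : Frame G Ω F q) (hF : Fintype.card F = q ^ 2) (hq : 2 < q)
    {L : Subgroup G} [L.Normal] (e : L ≃* Cfsg.PSU 3 F q) (hidx : L.index ∣ q + 1) :
    Nonempty (G ≃* (↥(Cfsg.GU 3 F q) ⧸ Subgroup.center ↥(Cfsg.GU 3 F q))) := by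
  classical
  have hodd : Odd L.index := (even_q hF).1.add_one.of_dvd_nat hidx
  have hinv : ∀ s : G, orderOf s = 2 → s ∈ L := fun s hs =>
    mem_of_pow_eq_one_coprime L (hs ▸ pow_orderOf_eq_one s) (Nat.coprime_two_left.2 hodd)
  have hsyl : ∀ t (ht : orderOf t = 2), sylOf Φ.data hF t ht ≤ L := fun t ht u hu => by
    refine mem_of_pow_eq_one_coprime L hu.2 ?_
    obtain ⟨n, hn, hqn⟩ := exists_pow_eq hF
    rw [hqn, ← pow_mul]
    exact (Nat.coprime_two_left.2 hodd).pow_left _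
  let ψ : G →* MulAut (Cfsg.PSU 3 F q) :=
    (MulAut.congr e).toMonoidHom.comp MulAut.conjNormal
  have hψ : ∀ (g : G) (l : L), ψ g (e l) = e (MulAut.conjNormal g l) := fun g l => by
    show e (MulAut.conjNormal g (e.symm (e l))) = _
    rw [e.symm_apply_apply]
  have hψinj : Function.Injective ψ := by
    rw [injective_iff_map_eq_one]
    intro g hg
    refine Φ.eq_one_of_centralises hF hq fun t ht u hu => ?_
    have h1 := hψ g ⟨u, hsyl t ht hu⟩
    rw [hg, MulAut.one_apply] at h1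
    have h2 : u = g * u * g⁻¹ := congrArg Subtype.val (e.injective h1)
    exact (eq_mul_inv_iff_mul_eq.1 h2).symm
  set R := (AutPSU.innDiagHom (F := F) (n := 3) (q := q)).range
  have hinner : ∀ l : L, ψ l ∈ R := by
    intro l
    have h : ψ l = MulAut.conj (e l) := by
      ext1 x
      obtain ⟨y, rfl⟩ := e.surjective x
      rw [hψ, MulAut.conj_apply, ← map_inv, ← map_mul, ← map_mul]
      rfl
    rw [h]
    exact conj_mem_range _
  -- the base involution and point
  set T1 := transvSU hF 1 (one_pow q) with hT1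
  set t := (e.symm (QuotientGroup.mk T1) : G) with htdef
  have ht2 : orderOf t = 2 := by
    haveI : Fact (Nat.Prime 2) := ⟨Nat.prime_two⟩
    refine orderOf_eq_prime ?_ ?_
    · rw [sq, htdef, ← Subgroup.coe_mul, ← map_mul, ← QuotientGroup.mk_mul, hT1, transvSU_mul_self]
      simp
    · intro h
      have h1 : e.symm (QuotientGroup.mk T1) = 1 := Subtype.ext h
      rw [e.symm.map_eq_one_iff] at h1
      exact one_ne_zero (transvSU_eq_one_iff hF _ _ h1)
  obtain ⟨a, hta⟩ := Φ.fix.exists_fix t ht2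
  have ht : t ∈ invMap (G := G) a a := ⟨ht2, hta⟩
  haveI := Φ.nontriv
  obtain ⟨b, hb⟩ := exists_ne a
  -- odd elements centralising the involutions at `a` act as inner-diagonal maps
  have hD1 : ∀ z ∈ pairStab G a b, z ∈ Subgroup.centralizer ({t} : Set G) → ψ z ∈ R := by
    intro z hz hzc
    obtain ⟨k, hk⟩ : Odd (orderOf z) :=
      (odd_pairStab Φ.fix hb.symm).of_dvd_nat (Subgroup.orderOf_dvd_natCard _ hz)
    have hsq : z = z ^ (k + 1) * z ^ (k + 1) := by
      rw [← pow_add, show k + 1 + (k + 1) = orderOf z + 1 by omega, pow_succ, pow_orderOf_eq_one,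
        one_mul]
    rw [hsq, map_mul]
    refine sq_mem_range hF (by omega) fun c hc => ?_
    set T := transvSU hF c hc with hT
    set l := e.symm (QuotientGroup.mk T) with hl
    have hel : (QuotientGroup.mk T : Cfsg.PSU 3 F q) = e l := (e.apply_symm_apply _).symm
    rw [hel, hψ]
    congr 1
    apply Subtype.ext
    show z ^ (k + 1) * (l : G) * (z ^ (k + 1))⁻¹ = l
    refine mul_inv_eq_iff_eq_mul.2 ?_
    by_cases h1 : (l : G) = 1
    · rw [h1, mul_one, one_mul]
    · have hl2 : orderOf (l : G) = 2 := by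
        refine orderOf_eq_prime ?_ h1
        rw [sq, hl, ← Subgroup.coe_mul, ← map_mul, ← QuotientGroup.mk_mul, hT, transvSU_mul_self]
        simp
      have hcomm : Commute (l : G) t := by
        show (l : G) * t = t * l
        rw [hl, htdef, ← Subgroup.coe_mul, ← Subgroup.coe_mul, ← map_mul, ← map_mul,
          ← QuotientGroup.mk_mul, ← QuotientGroup.mk_mul, hT, hT1, transvSU_comm]
      have hfix : (l : G) ∈ invMap (G := G) a a := ⟨hl2, commute_fix Φ.fix ht2 hcomm hta⟩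
      have h2 := pow_mem hzc (k + 1)
      rw [← Φ.cent_eq hfix ht] at h2
      exact Subgroup.mem_centralizer_singleton_iff.1 h2
  have hle : ψ.range ≤ R := by
    rintro _ ⟨g, rfl⟩
    obtain ⟨l, hlL, hlg⟩ : ∃ l ∈ L, (l⁻¹ * g) • a = a := by
      by_cases hga : g • a = a
      · exact ⟨1, one_mem L, by rw [inv_one, one_mul, hga]⟩
      · obtain ⟨i, hi⟩ := Φ.exists_swap (Ne.symm hga)
        exact ⟨i, hinv i hi.1, by
          rw [mul_smul, inv_smul_eq_iff, hi.2]⟩
    obtain ⟨u, hu, d, hd, hud⟩ := Φ.decomp hF hq hb.symm ht hlg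
    rw [show g = l * u * d by rw [mul_assoc, ← hud]; group, map_mul, map_mul]
    refine mul_mem (mul_mem (hinner ⟨l, hlL⟩) (hinner ⟨u, hsyl t ht2 hu⟩)) ?_
    have hcop := coprime_sub_add (even_q hF).1 (even_q hF).2
    refine mem_of_pow_mem (a := q - 1) (b := q + 1) ?_ ?_ hcop
    · rw [← map_pow]
      exact hD1 _ (pow_mem hd _) (Φ.pow_sub_one_mem hF hb.symm ht hd)
    · rw [← map_pow]
      have hpow : (d ^ (q + 1)) ^ (q - 1) = 1 := by
        have h := pow_card_eq_one' (x := (⟨d, hd⟩ : pairStab G a b))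
        rw [Φ.card_pair_eq hF hq hb.symm] at h
        rw [← pow_mul, ← Nat.sq_sub_sq, one_pow]
        exact congrArg Subtype.val h
      exact hinner ⟨_, mem_of_pow_eq_one_coprime L hpow (hcop.coprime_dvd_right hidx)⟩
  let eR : ↥(Cfsg.GU 3 F q) ⧸ Subgroup.center ↥(Cfsg.GU 3 F q) ≃* R :=
    (QuotientGroup.quotientMulEquivOfEq (innDiag_ker hF (by omega)).symm).trans
      (QuotientGroup.quotientKerEquivRange _)
  have hcard : Nat.card R ≤ Nat.card ψ.range := by
    rw [← Nat.card_congr eR.toEquiv, card_PGU hF,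
      ← Nat.card_congr (MonoidHom.ofInjective hψinj).toEquiv, Φ.card_group hF hq]
  haveI : Finite R := Finite.of_equiv _ eR.toEquiv
  exact ⟨(MonoidHom.ofInjective hψinj).trans
    ((MulEquiv.subgroupCongr (Subgroup.eq_of_le_of_card_ge hle hcard)).trans eR.symm)⟩

/-- **Suzuki's characterisation of `PGU₃(2ⁿ)`**, given the rank one classification. -/
theorem characterisation_of_rankOne
    (h1136 : ∀ (G : Type u) [Group G] [Finite G] (Ω : Type u) [MulAction G Ω] [FaithfulSMul G Ω]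
      (a : Ω) (t : G) (Q : Subgroup G), Cfsg.IsRankOneSetup G Ω a t Q →
      (∃ x y : G, x ≠ 1 ∧ y ≠ 1 ∧ x ≠ y ∧ x * x = 1 ∧ y * y = 1 ∧ x * y = y * x) →
      ∃ L : Subgroup G, L.Normal ∧ Odd L.index ∧
        ((∃ (F : Type) (_ : Field F) (_ : Fintype F), (∃ n : ℕ, 2 ≤ n ∧ Fintype.card F = 2 ^ n) ∧
            Nonempty (L ≃* Matrix.ProjectiveSpecialLinearGroup (Fin 2) F)) ∨
          Cfsg.Lie.IsoSuzuki L ∨
          (∃ (F : Type) (_ : Field F) (_ : Fintype F) (n : ℕ), 2 ≤ n ∧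
            Fintype.card F = (2 ^ n) ^ 2 ∧ Nonempty (L ≃* Cfsg.PSU 3 F (2 ^ n)))))
    {G : Type u} [Group G] [Finite G] (hF : Fintype.card F = q ^ 2) (hq : 2 < q)
    (heven : Even (Nat.card G)) (hd : CentHyp G F q)
    (hS : ∀ P : Sylow 2 G, ¬ (P : Subgroup G).Normal) :
    Nonempty (G ≃* (↥(Cfsg.GU 3 F q) ⧸ Subgroup.center ↥(Cfsg.GU 3 F q))) := by
  obtain ⟨M, Φ⟩ := exists_frame hd hF heven hS
  haveI := Φ.faithful hF hq
  haveI := Φ.nontriv
  obtain ⟨x, y, hxy⟩ := exists_pair_ne (G ⧸ M)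
  obtain ⟨t, ht⟩ := Φ.fix.exists_inv x
  obtain ⟨w, hw⟩ := Φ.exists_swap hxy
  obtain ⟨L, hLn, hodd, hL⟩ := h1136 G (G ⧸ M) x w _ (Φ.setup hF hq hxy ht hw)
    (Φ.exists_commuting hF hq)
  obtain ⟨⟨e⟩, hidx⟩ := exists_psu_iso hF (Φ.card_group hF hq) hodd hL
  exact Φ.iso_of_psu hF hq e (hidx ▸ Nat.gcd_dvd_right 3 (q + 1))

end CfsgLib.SuzukiU
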