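import Cfsg.Agent.SuzukiU.Model
import Cfsg.Agent.SEmbed.Cosets
import Mathlib.GroupTheory.Sylow

/-!
# Groups whose involution centralisers look like those of `PGU₃(q)`: the points

The involution centralisers have a normal Sylow 2-subgroup with central involutions; hence the
normaliser of a Sylow 2-subgroup is strongly embedded and commuting involutions are those fixing
the same point.
-/

set_option autoImplicit false
set_option linter.unusedSectionVars false
set_option linter.style.haveILetI false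

namespace CfsgLib.SuzukiU

open CfsgLib.SEmbed CfsgLib.Small

theorem mem_of_pow_mem {G : Type*} [Group G] {S : Subgroup G} {x : G} {a b : ℕ}
    (ha : x ^ a ∈ S) (hb : x ^ b ∈ S) (h : a.Coprime b) : x ∈ S := by
  have := mul_mem (zpow_mem (show x ^ (a : ℤ) ∈ S by rwa [zpow_natCast]) (Nat.gcdA a b))
    (zpow_mem (show x ^ (b : ℤ) ∈ S by rwa [zpow_natCast]) (Nat.gcdB a b))
  rwa [← zpow_mul, ← zpow_mul, ← zpow_add, ← Nat.gcd_eq_gcd_ab, h, Nat.cast_one, zpow_one] at this

theorem eq_one_of_pow_coprime {G : Type*} [Group G] {x : G} {a b : ℕ}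
    (ha : x ^ a = 1) (hb : x ^ b = 1) (h : a.Coprime b) : x = 1 :=
  Subgroup.mem_bot.1 (mem_of_pow_mem (S := ⊥) (Subgroup.mem_bot.2 ha) (Subgroup.mem_bot.2 hb) h)

theorem coprime_sub_add {q : ℕ} (hq : Even q) (h0 : q ≠ 0) : (q - 1).Coprime (q + 1) := by
  have : Nat.gcd (q - 1) (q + 1) ∣ 2 := by
    have h := Nat.dvd_sub (Nat.gcd_dvd_right (q - 1) (q + 1)) (Nat.gcd_dvd_left (q - 1) (q + 1))
    rwa [show q + 1 - (q - 1) = 2 by omega] at h
  rcases (Nat.dvd_prime Nat.prime_two).1 this with h | h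
  · exact h
  · obtain ⟨k, rfl⟩ := hq
    have h' := Nat.gcd_dvd_right (k + k - 1) (k + k + 1)
    rw [h] at h'
    omega

theorem even_q {F : Type*} [Field F] [Fintype F] [CharP F 2] {q : ℕ} (hF : Fintype.card F = q ^ 2) :
    Even q ∧ q ≠ 0 := by
  obtain ⟨n, hn, rfl⟩ := exists_pow_eq hF
  exact ⟨even_two.pow_of_ne_zero (by omega), by positivity⟩

theorem coprime_cube_succ {F : Type*} [Field F] [Fintype F] [CharP F 2] {q : ℕ}
    (hF : Fintype.card F = q ^ 2) : (q ^ 3).Coprime (q + 1) := by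
  apply Nat.Coprime.pow_left
  rw [Nat.coprime_self_add_right]
  exact Nat.coprime_one_right q

theorem coprime_sub_card {F : Type*} [Field F] [Fintype F] [CharP F 2] {q : ℕ}
    (hF : Fintype.card F = q ^ 2) : (q - 1).Coprime ((q + 1) * q ^ 3) := by
  obtain ⟨he, h0⟩ := even_q hF
  refine Nat.Coprime.mul_right (coprime_sub_add he h0) (Nat.Coprime.pow_right _ ?_)
  obtain ⟨k, hk⟩ : ∃ k, q = k + 1 := ⟨q - 1, by omega⟩
  subst hk
  simp

section Data

variable {C : Type*} [Group C] [Finite C] {F : Type*} [Field F] [Fintype F] [CharP F 2] {q : ℕ}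
  (d : CentData C F q) (hF : Fintype.card F = q ^ 2)

theorem CentData.pow_card_ker {x : C} (hx : d.chi x = 1) : x ^ q ^ 3 = 1 := by
  have h := pow_card_eq_one' (x := (⟨x, hx⟩ : d.chi.ker))
  rw [d.card_ker] at h
  exact congrArg Subtype.val h

include hF in
theorem CentData.chi_eq_one_of_pow {x : C} (hx : x ^ q ^ 3 = 1) : d.chi x = 1 :=
  eq_one_of_pow_coprime (by rw [← map_pow, hx, map_one]) (d.chi_pow x) (coprime_cube_succ hF)

include hF in
theorem CentData.chi_eq_one_of_sq {x : C} (hx : x * x = 1) : d.chi x = 1 := by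
  refine eq_one_of_pow_coprime (a := 2) (by rw [← map_pow, sq, hx, map_one]) (d.chi_pow x) ?_
  rw [Nat.coprime_two_left]
  exact (even_q hF).1.add_one

include d hF in
theorem CentData.card : Nat.card C = q ^ 3 * (q + 1) := by
  have h := Subgroup.card_eq_card_quotient_mul_card_subgroup d.chi.ker
  rw [Nat.card_congr (QuotientGroup.quotientKerEquivRange d.chi).toEquiv, d.card_ker] at h
  have hr : d.chi.range = AutPSU.normOne F q := by
    ext μ
    exact ⟨fun ⟨c, hc⟩ => hc ▸ d.chi_pow c, fun hμ => d.chi_surj μ hμ⟩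
  rw [h, hr, AutPSU.card_normOne hF, mul_comm]

include d hF in
theorem CentData.card_sq_one : Nat.card {x : C // x * x = 1} = q := by
  let p : d.chi.ker →* Multiplicative F :=
    MonoidHom.mk' (fun x => Multiplicative.ofAdd (d.pi x.1)) fun x y => by
      rw [← ofAdd_add]; exact congrArg _ (d.pi_mul _ _ x.2 y.2)
  have hs : Function.Surjective p := fun f => by
    obtain ⟨x, hx, hf⟩ := d.pi_surj f.toAdd
    exact ⟨⟨x, hx⟩, hf⟩
  have h := Subgroup.card_eq_card_quotient_mul_card_subgroup p.ker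
  rw [Nat.card_congr (QuotientGroup.quotientKerEquivOfSurjective p hs).toEquiv, d.card_ker,
    Nat.card_congr Multiplicative.toAdd, Nat.card_eq_fintype_card (α := F), hF] at h
  let e : p.ker ≃ {x : C // x * x = 1} :=
    { toFun := fun x => ⟨x.1.1, (d.pi_eq_zero _ x.1.2).1 x.2⟩
      invFun := fun x => ⟨⟨x.1, d.chi_eq_one_of_sq hF x.2⟩,
        (d.pi_eq_zero _ (d.chi_eq_one_of_sq hF x.2)).2 x.2⟩
      left_inv := fun _ => rfl
      right_inv := fun _ => rfl }
  rw [← Nat.card_congr e]
  have h0 := (even_q hF).2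
  exact Nat.eq_of_mul_eq_mul_left (show 0 < q ^ 2 by positivity)
    (h.symm.trans (by ring))

/-- An element centralising the normal Sylow 2-subgroup lies in it. -/
theorem CentData.chi_eq_one_of_commute {c : C} (h : ∀ x, d.chi x = 1 → c * x = x * c) :
    d.chi c = 1 := by
  obtain ⟨x, hx, hf⟩ := d.pi_surj 1
  have h1 := d.pi_conj c x hx
  rw [h x hx, mul_inv_cancel_right, hf, mul_one] at h1
  exact Units.ext h1.symm

end Data

/-- All involution centralisers carry the data. -/
def CentHyp (G : Type*) [Group G] (F : Type*) [Field F] (q : ℕ) : Prop :=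
  ∀ t : G, orderOf t = 2 → Nonempty (CentData ↥(Subgroup.centralizer ({t} : Set G)) F q)

variable {G : Type*} [Group G] [Finite G] {F : Type*} [Field F] [Fintype F] [CharP F 2] {q : ℕ}

theorem self_mem_cent (t : G) : t ∈ Subgroup.centralizer ({t} : Set G) :=
  Subgroup.mem_centralizer_singleton_iff.2 rfl

/-- The normal Sylow 2-subgroup of an involution centraliser. -/
def sylOf (hd : CentHyp G F q) (hF : Fintype.card F = q ^ 2) (t : G) (ht : orderOf t = 2) :
    Subgroup G where
  carrier := {y | y ∈ Subgroup.centralizer ({t} : Set G) ∧ y ^ q ^ 3 = 1}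
  one_mem' := ⟨one_mem _, one_pow _⟩
  mul_mem' := fun {x y} hx hy => by
    obtain ⟨d⟩ := hd t ht
    refine ⟨mul_mem hx.1 hy.1, ?_⟩
    have h := d.pow_card_ker (x := (⟨x, hx.1⟩ * ⟨y, hy.1⟩ : ↥(Subgroup.centralizer ({t} : Set G))))
      (by rw [map_mul, d.chi_eq_one_of_pow hF (Subtype.ext hx.2),
        d.chi_eq_one_of_pow hF (Subtype.ext hy.2), one_mul])
    exact congrArg Subtype.val h
  inv_mem' := fun {x} hx => ⟨inv_mem hx.1, by rw [inv_pow, hx.2, inv_one]⟩

variable (hd : CentHyp G F q) (hF : Fintype.card F = q ^ 2)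

theorem mem_sylOf_iff {t : G} (ht : orderOf t = 2)
    (d : CentData ↥(Subgroup.centralizer ({t} : Set G)) F q)
    (x : ↥(Subgroup.centralizer ({t} : Set G))) :
    (x : G) ∈ sylOf hd hF t ht ↔ d.chi x = 1 :=
  ⟨fun h => d.chi_eq_one_of_pow hF (Subtype.ext h.2),
    fun h => ⟨x.2, congrArg Subtype.val (d.pow_card_ker h)⟩⟩

theorem card_sylOf {t : G} (ht : orderOf t = 2) : Nat.card (sylOf hd hF t ht) = q ^ 3 := by
  obtain ⟨d⟩ := hd t ht
  rw [← d.card_ker]
  exact Nat.card_congr
    { toFun := fun y => ⟨⟨y.1, y.2.1⟩, (mem_sylOf_iff hd hF ht d _).1 y.2⟩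
      invFun := fun x => ⟨x.1.1, (mem_sylOf_iff hd hF ht d _).2 x.2⟩
      left_inv := fun _ => rfl
      right_inv := fun _ => rfl }

include hd in
/-- Involutions of an involution centraliser have the same centraliser. -/
theorem cent_eq_of_commute {s t : G} (hs : orderOf s = 2) (ht : orderOf t = 2) (h : Commute s t) :
    Subgroup.centralizer ({s} : Set G) = Subgroup.centralizer ({t} : Set G) := by
  suffices key : ∀ s t : G, orderOf s = 2 → orderOf t = 2 → Commute s t →
      Subgroup.centralizer ({t} : Set G) ≤ Subgroup.centralizer ({s} : Set G) from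
    le_antisymm (key t s ht hs h.symm) (key s t hs ht h)
  intro s t hs ht h c hc
  obtain ⟨d⟩ := hd t ht
  rw [Subgroup.mem_centralizer_singleton_iff]
  exact (congrArg Subtype.val (d.central ⟨s, Subgroup.mem_centralizer_singleton_iff.2 h.eq⟩
    (Subtype.ext (mul_self_of_orderOf_two hs)) ⟨c, hc⟩)).symm

theorem invol_mem_sylOf {s t : G} (hs : orderOf s = 2) (ht : orderOf t = 2) (h : Commute s t) :
    s ∈ sylOf hd hF t ht := by
  refine ⟨Subgroup.mem_centralizer_singleton_iff.2 h.eq, ?_⟩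
  obtain ⟨n, hn, hq⟩ := exists_pow_eq hF
  rw [← orderOf_dvd_iff_pow_eq_one, hs, hq, ← pow_mul]
  exact dvd_pow_self 2 (by omega)

theorem sylOf_eq_of_commute {s t : G} (hs : orderOf s = 2) (ht : orderOf t = 2) (h : Commute s t) :
    sylOf hd hF s hs = sylOf hd hF t ht := by
  ext y
  show _ ∧ _ ↔ _ ∧ _
  rw [cent_eq_of_commute hd hs ht h]

theorem sylOf_conj {g t : G} (ht : orderOf t = 2) (ht' : orderOf (g * t * g⁻¹) = 2) {y : G}
    (hy : y ∈ sylOf hd hF t ht) : g * y * g⁻¹ ∈ sylOf hd hF (g * t * g⁻¹) ht' := by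
  refine ⟨Subgroup.mem_centralizer_singleton_iff.2 ?_, by rw [conj_pow, hy.2]; group⟩
  have := Subgroup.mem_centralizer_singleton_iff.1 hy.1
  calc g * y * g⁻¹ * (g * t * g⁻¹) = g * (y * t) * g⁻¹ := by group
    _ = g * (t * y) * g⁻¹ := by rw [this]
    _ = _ := by group

theorem isPGroup_sylOf {t : G} (ht : orderOf t = 2) : IsPGroup 2 (sylOf hd hF t ht) := by
  obtain ⟨n, hn, hq⟩ := exists_pow_eq hF
  exact IsPGroup.of_card (n := n * 3) (by rw [card_sylOf, hq, pow_mul])

include hd hF in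
/-- There is a strongly embedded subgroup whose involutions commute. -/
theorem exists_stronglyEmbedded (heven : Even (Nat.card G))
    (hS : ∀ P : Sylow 2 G, ¬ (P : Subgroup G).Normal) :
    ∃ M : Subgroup G, Cfsg.IsStronglyEmbedded M ∧
      ∀ s ∈ M, ∀ t ∈ M, orderOf s = 2 → orderOf t = 2 → Commute s t := by
  classical
  haveI : Fact (Nat.Prime 2) := ⟨Nat.prime_two⟩
  obtain ⟨P⟩ := (inferInstance : Nonempty (Sylow 2 G))
  have hP1 : Nat.card P ≠ 1 := by
    intro h
    have := (P.card_eq_multiplicity).symm.trans h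
    rw [Nat.pow_eq_one] at this
    rcases this with h2 | h2
    · norm_num at h2
    · exact absurd (heven.two_dvd) (fun hd' => by
        have := (Nat.Prime.factorization_pos_of_dvd Nat.prime_two Nat.card_pos.ne' hd')
        omega)
  haveI : Nontrivial P := Finite.one_lt_card_iff_nontrivial.1
    (by have := Nat.card_pos (α := P); omega)
  haveI := P.2.center_nontrivial
  obtain ⟨k, hk0, hk⟩ := (P.2.to_subgroup (Subgroup.center P)).nontrivial_iff_card.1 inferInstance
  obtain ⟨⟨⟨z, hzP⟩, hzc⟩, hz⟩ := exists_prime_orderOf_dvd_card' (G := Subgroup.center P) 2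
    (hk ▸ dvd_pow_self 2 hk0.ne')
  have hz2 : orderOf z = 2 := by
    rw [Subgroup.orderOf_mk, Subgroup.orderOf_mk] at hz
    exact hz
  have hPle : (P : Subgroup G) ≤ sylOf hd hF z hz2 := by
    intro y hy
    have hc : y ∈ Subgroup.centralizer ({z} : Set G) := Subgroup.mem_centralizer_singleton_iff.2
      (congrArg Subtype.val (Subgroup.mem_center_iff.1 hzc ⟨y, hy⟩))
    obtain ⟨d⟩ := hd z hz2
    refine (mem_sylOf_iff hd hF hz2 d ⟨y, hc⟩).2 ?_
    obtain ⟨j, hj⟩ := P.2 ⟨y, hy⟩
    refine eq_one_of_pow_coprime (a := 2 ^ j) ?_ (d.chi_pow _) ?_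
    · rw [← map_pow]
      convert map_one d.chi
      exact Subtype.ext (by simpa using congrArg Subtype.val hj)
    · apply Nat.Coprime.pow_left
      rw [Nat.coprime_two_left]
      exact (even_q hF).1.add_one
  have hPeq : sylOf hd hF z hz2 = (P : Subgroup G) := P.3 (isPGroup_sylOf hd hF hz2) hPle
  set M := Subgroup.normalizer ((P : Subgroup G) : Set G)
  have hinv : ∀ s ∈ M, orderOf s = 2 → sylOf hd hF z hz2 = (P : Subgroup G) ∧ Commute s z := by
    intro s hs ho
    refine ⟨hPeq, ?_⟩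
    have hsP : s ∈ (P : Subgroup G) := by
      have hp : IsPGroup 2 (Subgroup.zpowers s) :=
        IsPGroup.of_card (n := 1) (by rw [Nat.card_zpowers, ho, pow_one])
      have := P.3 (hp.to_sup_of_normal_right' P.2 (Subgroup.zpowers_le.2 hs)) le_sup_right
      exact this ▸ (le_sup_left : Subgroup.zpowers s ≤ _) (Subgroup.mem_zpowers s)
    exact Subgroup.mem_centralizer_singleton_iff.1 (hPeq.symm ▸ hsP : s ∈ sylOf hd hF z hz2).1
  have hzM : z ∈ M := Subgroup.le_normalizer hzP
  have hsyl : ∀ s ∈ M, ∀ ho : orderOf s = 2, sylOf hd hF s ho = (P : Subgroup G) :=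
    fun s hs ho => (sylOf_eq_of_commute hd hF ho hz2 (hinv s hs ho).2).trans hPeq
  have hne : M ≠ ⊤ := fun h => hS P (Subgroup.normalizer_eq_top_iff.1 h)
  have hMeven : Even (Nat.card M) := by
    rw [even_iff_two_dvd, ← hz2]
    exact Subgroup.orderOf_dvd_natCard M hzM
  refine ⟨M, (isStronglyEmbedded_iff hne hMeven).2 ?_, fun s hs t ht hso hto => ?_⟩
  · intro s hs ho g hg
    have ho' : orderOf (g⁻¹ * s * g⁻¹⁻¹) = 2 := by rw [orderOf_conj_eq, ho]
    have hsub : ∀ y ∈ (P : Subgroup G), g⁻¹ * y * g ∈ (P : Subgroup G) := by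
      intro y hy
      rw [← hsyl s hs ho] at hy
      have h2 := sylOf_conj hd hF ho ho' hy
      simp only [inv_inv] at h2 ho'
      rw [← hsyl _ hg ho']
      exact h2
    refine inv_mem_iff.1 ((Subgroup.mem_normalizer_fintype fun y hy => ?_) : g⁻¹ ∈ M)
    rw [inv_inv]
    exact hsub y hy
  · have h1 := cent_eq_of_commute hd hto hz2 (hinv t ht hto).2
    exact (Subgroup.mem_centralizer_singleton_iff.1
      (h1.symm ▸ Subgroup.mem_centralizer_singleton_iff.2 (hinv s hs hso).2.eq :
        s ∈ Subgroup.centralizer ({t} : Set G)))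

end CfsgLib.SuzukiU
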