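import Cfsg.Agent.AutPSU.GU
import Cfsg.Agent.RootClasses.GUCenter
import Cfsg.Agent.Forms.UnitaryOrder
import Mathlib.FieldTheory.Finite.Basic

/-!
# The centraliser of an involution in `PGU₃(2ⁿ)`

`CentData C F q` records what is used about such a centraliser: a character onto the elements of
norm one whose kernel has order `q³`, and an additive map on the kernel onto `F` whose kernel is
the set of (central) elements squaring to one.
-/

set_option autoImplicit false
set_option linter.unusedSectionVars false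

namespace CfsgLib.SuzukiU

open Matrix CfsgLib.AutPSU

/-- The data of an involution centraliser in `PGU₃(q)`, `q` even. -/
structure CentData (C : Type*) [Group C] (F : Type*) [Field F] (q : ℕ) where
  chi : C →* Fˣ
  pi : C → F
  chi_pow : ∀ c, chi c ^ (q + 1) = 1
  chi_surj : ∀ μ : Fˣ, μ ^ (q + 1) = 1 → ∃ c, chi c = μ
  card_ker : Nat.card chi.ker = q ^ 3
  pi_mul : ∀ x y, chi x = 1 → chi y = 1 → pi (x * y) = pi x + pi y
  pi_surj : ∀ f : F, ∃ x, chi x = 1 ∧ pi x = f
  pi_eq_zero : ∀ x, chi x = 1 → (pi x = 0 ↔ x * x = 1)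
  pi_conj : ∀ c x, chi x = 1 → pi (c * x * c⁻¹) = chi c * pi x
  central : ∀ x : C, x * x = 1 → ∀ c, x * c = c * x

/-- Transport along an isomorphism. -/
def CentData.transport {C C' : Type*} [Group C] [Group C'] {F : Type*} [Field F] {q : ℕ}
    (d : CentData C F q) (e : C' ≃* C) : CentData C' F q where
  chi := d.chi.comp e.toMonoidHom
  pi := fun x => d.pi (e x)
  chi_pow := fun c => d.chi_pow (e c)
  chi_surj := fun μ hμ => by
    obtain ⟨c, hc⟩ := d.chi_surj μ hμ
    exact ⟨e.symm c, by simp [hc]⟩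
  card_ker := by
    rw [← d.card_ker]
    exact Nat.card_congr (e.toEquiv.subtypeEquiv fun x => Iff.rfl)
  pi_mul := fun x y hx hy => by simp only [map_mul]; exact d.pi_mul _ _ hx hy
  pi_surj := fun f => by
    obtain ⟨x, hx, hf⟩ := d.pi_surj f
    exact ⟨e.symm x, by simp [hx], by simp [hf]⟩
  pi_eq_zero := fun x hx => by
    rw [d.pi_eq_zero (e x) hx, ← map_mul, e.map_eq_one_iff]
  pi_conj := fun c x hx => by
    simp only [map_mul, map_inv, MonoidHom.coe_comp, Function.comp_apply, MulEquiv.toMonoidHom_eq_coe,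
      MonoidHom.coe_coe]
    exact d.pi_conj _ _ hx
  central := fun x hx c => e.injective (by
    rw [map_mul, map_mul]
    exact d.central (e x) (by rw [← map_mul, hx, map_one]) (e c))

variable {F : Type*} [Field F] [Fintype F] [CharP F 2] {q : ℕ}

theorem exists_pow_eq (hF : Fintype.card F = q ^ 2) : ∃ n : ℕ, 1 ≤ n ∧ q = 2 ^ n := by
  obtain ⟨k, -, hk⟩ := FiniteField.card F 2
  obtain ⟨n, -, hn⟩ := (Nat.dvd_prime_pow Nat.prime_two).1
    (show q ∣ 2 ^ (k : ℕ) by rw [← hk, hF]; exact dvd_pow_self q two_ne_zero)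
  refine ⟨n, Nat.one_le_iff_ne_zero.2 fun h0 => ?_, hn⟩
  rw [hn, h0, pow_zero, one_pow] at hF
  exact Fintype.one_lt_card.ne' hF

theorem pow_q_add (hF : Fintype.card F = q ^ 2) (x y : F) : (x + y) ^ q = x ^ q + y ^ q := by
  haveI : ExpChar F 2 := ExpChar.prime Nat.prime_two
  obtain ⟨n, -, rfl⟩ := exists_pow_eq hF
  exact add_pow_char_pow x y 2 n

theorem pow_q_q (hF : Fintype.card F = q ^ 2) (x : F) : (x ^ q) ^ q = x := by
  rw [← pow_mul, ← sq, ← hF, FiniteField.pow_card]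

theorem card_fixed (hF : Fintype.card F = q ^ 2) : Nat.card {a : F // a ^ q = a} = q := by
  classical
  obtain ⟨n, hn, hq⟩ := exists_pow_eq hF
  have hq2 : 2 ≤ q := hq ▸ le_trans (by norm_num) (Nat.pow_le_pow_right two_pos hn)
  have hker : Nat.card (powMonoidHom (q - 1) : Fˣ →* Fˣ).ker = q - 1 := by
    rw [IsCyclic.card_powMonoidHom_ker, Nat.card_units, Nat.card_eq_fintype_card, hF]
    refine Nat.gcd_eq_right ⟨q + 1, ?_⟩
    obtain ⟨k, rfl⟩ : ∃ k, q = k + 1 := ⟨q - 1, by omega⟩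
    rw [Nat.add_sub_cancel, Nat.sub_eq_iff_eq_add (Nat.one_le_pow _ _ (by omega))]
    ring
  let e : Option (powMonoidHom (q - 1) : Fˣ →* Fˣ).ker ≃ {a : F // a ^ q = a} :=
    Equiv.ofBijective (fun o => o.elim ⟨0, zero_pow (by omega)⟩ fun u => ⟨((u : Fˣ) : F), by
      have h : ((u : Fˣ) : F) ^ (q - 1) = 1 := by
        have h' := congrArg Units.val (show (u : Fˣ) ^ (q - 1) = 1 from u.2)
        rwa [Units.val_pow_eq_pow_val, Units.val_one] at h'
      calc ((u : Fˣ) : F) ^ q = ((u : Fˣ) : F) ^ (q - 1 + 1) := by congr 1; omega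
        _ = _ := by rw [pow_succ, h, one_mul]⟩) (by
      constructor
      · rintro (_ | u) (_ | v) h
        · rfl
        · exact absurd (congrArg Subtype.val h).symm (Units.ne_zero _)
        · exact absurd (congrArg Subtype.val h) (Units.ne_zero _)
        · exact congrArg some (Subtype.ext (Units.ext (congrArg Subtype.val h)))
      · rintro ⟨a, ha⟩
        by_cases h0 : a = 0
        · exact ⟨none, Subtype.ext h0.symm⟩
        · refine ⟨some ⟨Units.mk0 a h0, Units.ext ?_⟩, Subtype.ext rfl⟩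
          show (Units.mk0 a h0 ^ (q - 1)).1 = 1
          rw [Units.val_pow_eq_pow_val, Units.val_mk0]
          refine mul_right_cancel₀ h0 ?_
          rw [one_mul, ← pow_succ, show q - 1 + 1 = q by omega, ha])
  rw [← Nat.card_congr e, Finite.card_option, hker]
  omega

theorem exists_trace (hF : Fintype.card F = q ^ 2) {c : F} (hc : c ^ q = c) :
    ∃ a : F, a + a ^ q = c := by
  classical
  let T : F →+ F := AddMonoidHom.mk' (fun a => a + a ^ q) fun a b => by
    rw [pow_q_add hF]; ring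
  have hker : Nat.card T.ker = q := by
    rw [← card_fixed hF]
    refine Nat.card_congr ((Equiv.refl F).subtypeEquiv fun a => ?_)
    show a + a ^ q = 0 ↔ a ^ q = a
    rw [CharTwo.add_eq_zero]; exact eq_comm
  have hrange : ∀ y ∈ T.range, y ^ q = y := by
    rintro _ ⟨a, rfl⟩
    show (a + a ^ q) ^ q = a + a ^ q
    rw [pow_q_add hF, pow_q_q hF, add_comm]
  have hcard : Nat.card T.range = q := by
    have h := AddSubgroup.card_eq_card_quotient_mul_card_addSubgroup T.ker
    rw [Nat.card_congr (QuotientAddGroup.quotientKerEquivRange T).toEquiv, hker,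
      Nat.card_eq_fintype_card (α := F), hF, sq] at h
    exact Nat.eq_of_mul_eq_mul_right (by obtain ⟨n, -, rfl⟩ := exists_pow_eq hF; positivity) h.symm
  have hbij := (Nat.bijective_iff_injective_and_card
    (fun y : T.range => (⟨y.1, hrange y.1 y.2⟩ : {a : F // a ^ q = a}))).2
    ⟨fun y z h => Subtype.ext (Subtype.mk.inj h), hcard.trans (card_fixed hF).symm⟩
  obtain ⟨⟨_, a, rfl⟩, ha⟩ := hbij.2 ⟨c, hc⟩
  exact ⟨a, congrArg Subtype.val ha⟩

theorem norm_fixed (hF : Fintype.card F = q ^ 2) (r : F) : (r ^ (q + 1)) ^ q = r ^ (q + 1) := by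
  rw [← pow_mul, mul_comm, pow_mul, pow_succ, pow_q_q hF, pow_succ', mul_comm]

/-- The general shape of a unitary matrix fixing `(1,1,0)`. -/
def stabMat (q : ℕ) (a r μ : F) : Matrix (Fin 3) (Fin 3) F :=
  !![a, a + 1, r ^ q * μ; a + 1, a, r ^ q * μ; r, r, μ]

theorem stabMat_preserves (hF : Fintype.card F = q ^ 2) {a r μ : F}
    (ha : a + a ^ q = r ^ (q + 1)) (hμ : μ ^ (q + 1) = 1) (u v : Fin 3 → F) :
    Cfsg.hermForm 3 F q (stabMat q a r μ *ᵥ u) (stabMat q a r μ *ᵥ v) =
      Cfsg.hermForm 3 F q u v := by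
  rw [pow_succ] at ha hμ
  have h2 : (2 : F) = 0 := CharTwo.two_eq_zero
  simp [Cfsg.hermForm, stabMat, Matrix.mulVec, dotProduct, Fin.sum_univ_three, mul_pow,
    pow_q_add hF, pow_q_q hF]
  grind

theorem stabMat_mul_stabMat (hF : Fintype.card F = q ^ 2) {a r μ a' r' μ' : F}
    (hμ : μ ^ (q + 1) = 1) :
    stabMat q a r μ * stabMat q a' r' μ' =
      stabMat q (1 + a + a' + r ^ q * μ * r') (r + μ * r') (μ * μ') := by
  rw [pow_succ] at hμ
  have h2 : (2 : F) = 0 := CharTwo.two_eq_zero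
  ext i j
  fin_cases i <;> fin_cases j <;>
    simp [stabMat, Matrix.mul_apply, Fin.sum_univ_three, mul_pow, pow_q_add hF] <;>
    grind

/-- The unit `stabMat`, as a member of `GU`. -/
noncomputable def stabEl (hF : Fintype.card F = q ^ 2) (a r μ : F)
    (ha : a + a ^ q = r ^ (q + 1)) (hμ : μ ^ (q + 1) = 1) : ↥(Cfsg.GU 3 F q) := by
  have hdet : (stabMat q a r μ).det ≠ 0 := by
    have h : (stabMat q a r μ).det = μ := by
      have h2 : (2 : F) = 0 := CharTwo.two_eq_zero
      simp [stabMat, Matrix.det_fin_three]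
      grind
    rw [h]
    intro h0
    rw [h0, zero_pow (by omega)] at hμ
    exact zero_ne_one hμ
  exact ⟨Matrix.GeneralLinearGroup.mkOfDetNeZero _ hdet,
    mem_GU_iff.2 (stabMat_preserves hF ha hμ)⟩

theorem stabEl_val (hF : Fintype.card F = q ^ 2) (a r μ : F)
    (ha : a + a ^ q = r ^ (q + 1)) (hμ : μ ^ (q + 1) = 1) :
    (stabEl hF a r μ ha hμ).1.1 = stabMat q a r μ := rfl

/-- The stabiliser in `GU₃` of the isotropic vector `(1,1,0)`. -/
def vecStab (F : Type*) [Field F] (q : ℕ) : Subgroup ↥(Cfsg.GU 3 F q) where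
  carrier := {g | g.1.1 *ᵥ ![1, 1, 0] = ![1, 1, 0]}
  one_mem' := by simp
  mul_mem' := fun {g h} hg hh => by
    show (g.1.1 * h.1.1) *ᵥ _ = _
    rw [← Matrix.mulVec_mulVec, hh, hg]
  inv_mem' := fun {g} hg => by
    show (g.1⁻¹ : GL (Fin 3) F).1 *ᵥ _ = _
    conv_lhs => rw [← hg, Matrix.mulVec_mulVec]
    rw [show (g.1⁻¹ : GL (Fin 3) F).1 * g.1.1 = 1 from g.1.inv_mul, Matrix.one_mulVec]

theorem vecStab_shape (hF : Fintype.card F = q ^ 2) {g : ↥(Cfsg.GU 3 F q)}
    (hg : g ∈ vecStab F q) :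
    g.1.1 = stabMat q (g.1.1 0 0) (g.1.1 2 0) (g.1.1 2 2) ∧
      g.1.1 0 0 + g.1.1 0 0 ^ q = g.1.1 2 0 ^ (q + 1) ∧ g.1.1 2 2 ^ (q + 1) = 1 := by
  obtain ⟨n, hn, hq⟩ := exists_pow_eq hF
  have hq0 : q ≠ 0 := hq ▸ by positivity
  set A := g.1.1 with hA
  have h2 : (2 : F) = 0 := CharTwo.two_eq_zero
  have hgv : A *ᵥ ![1, 1, 0] = ![1, 1, 0] := hg
  have r0 := congrFun hgv 0
  have r1 := congrFun hgv 1
  have r2 := congrFun hgv 2
  simp [Matrix.mulVec, dotProduct, Fin.sum_univ_three] at r0 r1 r2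
  have hform := mem_GU_iff.1 g.2
  have col : ∀ j : Fin 3, A 0 j + A 1 j = (Pi.single j 1 : Fin 3 → F) 0 + (Pi.single j 1 : Fin 3 → F) 1 := by
    intro j
    have h := hform (Pi.single j 1) ![1, 1, 0]
    rw [← hA, hgv] at h
    simpa [Cfsg.hermForm, Fin.sum_univ_three, zero_pow hq0] using h
  have c0 := col 0
  have c2 := col 2
  simp [Pi.single_apply] at c0 c2
  have e00 := hform (Pi.single 0 1) (Pi.single 0 1)
  have e22 := hform (Pi.single 2 1) (Pi.single 2 1)
  have e02 := hform (Pi.single 2 1) (Pi.single 0 1)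
  rw [← hA] at e00 e22 e02
  simp [Cfsg.hermForm, Fin.sum_univ_three, Pi.single_apply, zero_pow hq0] at e00 e22 e02
  have h01 : A 0 1 = A 0 0 + 1 := by grind
  have h10 : A 1 0 = A 0 0 + 1 := by grind
  have h11 : A 1 1 = A 0 0 := by grind
  have h21 : A 2 1 = A 2 0 := by grind
  have h12 : A 1 2 = A 0 2 := by grind
  rw [h10, pow_q_add hF, one_pow] at e00
  rw [h12] at e22
  rw [h10, h12, pow_q_add hF, one_pow] at e02
  have ha : A 0 0 + A 0 0 ^ q = A 2 0 ^ (q + 1) := by rw [pow_succ]; grind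
  have hμ : A 2 2 ^ (q + 1) = 1 := by rw [pow_succ]; grind
  have h02 : A 0 2 = A 2 0 ^ q * A 2 2 := by grind
  refine ⟨?_, ha, hμ⟩
  ext i j
  fin_cases i <;> fin_cases j <;> simp [stabMat, h01, h10, h11, h21, h12, h02]

theorem stabEl_mem (hF : Fintype.card F = q ^ 2) (a r μ : F)
    (ha : a + a ^ q = r ^ (q + 1)) (hμ : μ ^ (q + 1) = 1) :
    stabEl hF a r μ ha hμ ∈ vecStab F q := by
  show stabMat q a r μ *ᵥ ![1, 1, 0] = ![1, 1, 0]
  have h2 : (2 : F) = 0 := CharTwo.two_eq_zero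
  funext i
  fin_cases i <;> simp [stabMat, Matrix.mulVec, dotProduct, Fin.sum_univ_three] <;> grind

theorem vecStab_mul (hF : Fintype.card F = q ^ 2) (g h : ↥(vecStab F q)) :
    (g * h : ↥(vecStab F q)).1.1.1 0 0 =
        1 + g.1.1.1 0 0 + h.1.1.1 0 0 + g.1.1.1 2 0 ^ q * g.1.1.1 2 2 * h.1.1.1 2 0 ∧
      (g * h : ↥(vecStab F q)).1.1.1 2 0 = g.1.1.1 2 0 + g.1.1.1 2 2 * h.1.1.1 2 0 ∧
      (g * h : ↥(vecStab F q)).1.1.1 2 2 = g.1.1.1 2 2 * h.1.1.1 2 2 := by
  obtain ⟨hg, -, hμ⟩ := vecStab_shape hF g.2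
  obtain ⟨hh, -, -⟩ := vecStab_shape hF h.2
  have e : (g * h : ↥(vecStab F q)).1.1.1 = g.1.1.1 * h.1.1.1 := rfl
  rw [hg, hh, stabMat_mul_stabMat hF hμ] at e
  rw [e]
  exact ⟨rfl, rfl, rfl⟩

theorem vecStab_ext (hF : Fintype.card F = q ^ 2) {g h : ↥(vecStab F q)}
    (h0 : g.1.1.1 0 0 = h.1.1.1 0 0) (hr : g.1.1.1 2 0 = h.1.1.1 2 0)
    (hm : g.1.1.1 2 2 = h.1.1.1 2 2) : g = h := by
  refine Subtype.ext (Subtype.ext (Units.ext ?_))
  rw [(vecStab_shape hF g.2).1, (vecStab_shape hF h.2).1, h0, hr, hm]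

/-- The character of `vecStab`. -/
noncomputable def stabChi (hF : Fintype.card F = q ^ 2) : ↥(vecStab F q) →* Fˣ where
  toFun g := Units.mk0 (g.1.1.1 2 2) fun h0 => by
    have h := (vecStab_shape hF g.2).2.2
    rw [h0, zero_pow (by omega)] at h
    exact zero_ne_one h
  map_one' := Units.ext (by simp)
  map_mul' g h := Units.ext (by simp only [Units.val_mk0, Units.val_mul]; exact (vecStab_mul hF g h).2.2)

theorem stabChi_val (hF : Fintype.card F = q ^ 2) (g : ↥(vecStab F q)) :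
    ((stabChi hF g : Fˣ) : F) = g.1.1.1 2 2 := rfl

theorem stabChi_eq_one (hF : Fintype.card F = q ^ 2) {g : ↥(vecStab F q)} :
    stabChi hF g = 1 ↔ g.1.1.1 2 2 = 1 := by rw [Units.ext_iff]; rfl

theorem mul_self_eq_one_iff (hF : Fintype.card F = q ^ 2) {g : ↥(vecStab F q)} :
    g * g = 1 ↔ g.1.1.1 2 2 = 1 ∧ g.1.1.1 2 0 = 0 := by
  obtain ⟨n, hn, hq⟩ := exists_pow_eq hF
  have hq0 : q ≠ 0 := hq ▸ by positivity
  have h2 : (2 : F) = 0 := CharTwo.two_eq_zero
  obtain ⟨m0, m1, m2⟩ := vecStab_mul hF g g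
  have o0 : (1 : ↥(vecStab F q)).1.1.1 0 0 = 1 := by simp
  have o1 : (1 : ↥(vecStab F q)).1.1.1 2 0 = 0 := by simp
  have o2 : (1 : ↥(vecStab F q)).1.1.1 2 2 = 1 := by simp
  constructor
  · intro h
    rw [h] at m0 m1 m2
    rw [o0] at m0; rw [o1] at m1; rw [o2] at m2
    have hm : g.1.1.1 2 2 = 1 := by
      have : (g.1.1.1 2 2 + 1) ^ 2 = 0 := by grind
      have := eq_zero_of_pow_eq_zero this
      grind
    refine ⟨hm, ?_⟩
    rw [hm, mul_one] at m0
    have : g.1.1.1 2 0 ^ (q + 1) = 0 := by rw [pow_succ]; grind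
    exact eq_zero_of_pow_eq_zero this
  · rintro ⟨hm, hr⟩
    rw [hm, hr, zero_pow hq0] at m0
    rw [hm, hr] at m1
    rw [hm] at m2
    refine vecStab_ext hF ?_ ?_ ?_
    · rw [o0, m0]; grind
    · rw [o1, m1]; simp
    · rw [o2, m2, one_mul]

theorem card_kerChi (hF : Fintype.card F = q ^ 2) : Nat.card (stabChi hF).ker = q ^ 3 := by
  classical
  obtain ⟨n, hn, hq⟩ := exists_pow_eq hF
  have hq0 : q ≠ 0 := hq ▸ by positivity
  choose s hs using fun r : F => exists_trace hF (norm_fixed hF r)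
  let e : (stabChi hF).ker ≃ F × {a : F // a ^ q = a} :=
    { toFun := fun g => (g.1.1.1.1 2 0, ⟨g.1.1.1.1 0 0 + s (g.1.1.1.1 2 0), by
        have h := (vecStab_shape hF g.1.2).2.1
        have h' := hs (g.1.1.1.1 2 0)
        rw [pow_q_add hF]
        have h2 : (2 : F) = 0 := CharTwo.two_eq_zero
        grind⟩)
      invFun := fun p => ⟨⟨stabEl hF (p.2.1 + s p.1) p.1 1 (by
          have h2 : (2 : F) = 0 := CharTwo.two_eq_zero
          have h' := hs p.1
          have h'' := p.2.2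
          rw [pow_q_add hF]
          grind) (one_pow _), stabEl_mem hF _ _ _ _ _⟩,
        (stabChi_eq_one hF).2 rfl⟩
      left_inv := fun g => Subtype.ext (vecStab_ext hF (by
        have h2 : (2 : F) = 0 := CharTwo.two_eq_zero
        show g.1.1.1.1 0 0 + s _ + s _ = _
        grind) rfl ((stabChi_eq_one hF).1 g.2).symm)
      right_inv := fun p => Prod.ext rfl (Subtype.ext (by
        have h2 : (2 : F) = 0 := CharTwo.two_eq_zero
        show p.2.1 + s p.1 + s p.1 = _
        grind)) }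
  rw [Nat.card_congr e, Nat.card_prod, card_fixed hF, Nat.card_eq_fintype_card, hF]
  ring

/-- The data for `vecStab`. -/
noncomputable def vecStabData (hF : Fintype.card F = q ^ 2) : CentData ↥(vecStab F q) F q where
  chi := stabChi hF
  pi g := g.1.1.1 2 0
  chi_pow g := Units.ext (by
    rw [Units.val_pow_eq_pow_val, stabChi_val]; exact (vecStab_shape hF g.2).2.2)
  chi_surj μ hμ := by
    have hμ' : (μ : F) ^ (q + 1) = 1 := by rw [← Units.val_pow_eq_pow_val, hμ, Units.val_one]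
    obtain ⟨n, hn, hq⟩ := exists_pow_eq hF
    have hq0 : q ≠ 0 := hq ▸ by positivity
    exact ⟨⟨stabEl hF 0 0 μ (by simp [hq0]) hμ', stabEl_mem hF _ _ _ _ _⟩, Units.ext rfl⟩
  card_ker := card_kerChi hF
  pi_mul x y hx _ := by
    rw [(vecStab_mul hF x y).2.1, (stabChi_eq_one hF).1 hx, one_mul]
  pi_surj f := by
    obtain ⟨a, ha⟩ := exists_trace hF (norm_fixed hF f)
    exact ⟨⟨stabEl hF a f 1 ha (one_pow _), stabEl_mem hF _ _ _ _ _⟩,
      (stabChi_eq_one hF).2 rfl, rfl⟩
  pi_eq_zero x hx :=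
    ⟨fun h => (mul_self_eq_one_iff hF).2 ⟨(stabChi_eq_one hF).1 hx, h⟩,
      fun h => ((mul_self_eq_one_iff hF).1 h).2⟩
  pi_conj c x hx := by
    have h1 := (vecStab_mul hF (c * x) c⁻¹).2.1
    have h2 := (vecStab_mul hF c x).2.1
    have h3 := (vecStab_mul hF c x).2.2
    have h4 := (vecStab_mul hF c c⁻¹).2.1
    rw [h1, h2, h3, (stabChi_eq_one hF).1 hx, stabChi_val]
    rw [mul_inv_cancel] at h4
    have h5 : (0 : F) = c.1.1.1 2 0 + c.1.1.1 2 2 * (c⁻¹ : ↥(vecStab F q)).1.1.1 2 0 := by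
      rw [← h4]; simp
    linear_combination -h5
  central x hx c := by
    obtain ⟨n, hn, hq⟩ := exists_pow_eq hF
    have hq0 : q ≠ 0 := hq ▸ by positivity
    obtain ⟨hm, hr⟩ := (mul_self_eq_one_iff hF).1 hx
    have ha := (vecStab_mul hF x c)
    have hb := (vecStab_mul hF c x)
    refine vecStab_ext hF ?_ ?_ ?_
    · rw [ha.1, hb.1, hm, hr, zero_pow hq0]; ring
    · rw [ha.2.1, hb.2.1, hm, hr]; ring
    · rw [ha.2.2, hb.2.2, hm]; ring

/-- The transvection of the vector `(1,1,0)` with parameter `c`. -/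
noncomputable def transvEl (hF : Fintype.card F = q ^ 2) (c : F) (hc : c ^ q = c) :
    ↥(Cfsg.GU 3 F q) :=
  stabEl hF (1 + c) 0 1 (by
    have h2 : (2 : F) = 0 := CharTwo.two_eq_zero
    obtain ⟨n, hn, hq⟩ := exists_pow_eq hF
    have hq0 : q ≠ 0 := hq ▸ by positivity
    rw [pow_q_add hF, hc, one_pow, zero_pow (by omega)]
    grind) (one_pow _)

/-- The swap of the first two coordinates. -/
noncomputable def swapEl (hF : Fintype.card F = q ^ 2) : ↥(Cfsg.GU 3 F q) :=
  transvEl hF 1 (one_pow q)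

theorem swapEl_val (hF : Fintype.card F = q ^ 2) :
    (swapEl hF).1.1 = !![0, 1, 0; 1, 0, 0; 0, 0, 1] := by
  obtain ⟨n, hn, hq⟩ := exists_pow_eq hF
  have hq0 : q ≠ 0 := hq ▸ by positivity
  show stabMat q (1 + 1) 0 1 = _
  simp [stabMat, zero_pow hq0, CharTwo.add_self_eq_zero]

theorem mem_center_GU_iff (hF : Fintype.card F = q ^ 2) {g : ↥(Cfsg.GU 3 F q)} :
    g ∈ Subgroup.center ↥(Cfsg.GU 3 F q) ↔ ∃ u : F, g.1.1 = u • 1 := by
  constructor
  · intro h
    obtain ⟨x, -, hx⟩ := RootClasses.exists_scalar_of_mem_center_GU hF (by norm_num) h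
    refine ⟨x, ?_⟩
    rw [← hx]
    show Matrix.scalar (Fin 3) (x : F) = _
    rw [Matrix.scalar_apply, Matrix.smul_one_eq_diagonal]
  · rintro ⟨u, hu⟩
    refine Subgroup.mem_center_iff.2 fun h => Subtype.ext (Units.ext ?_)
    show h.1.1 * g.1.1 = g.1.1 * h.1.1
    rw [hu]; simp

theorem swapMk_orderOf (hF : Fintype.card F = q ^ 2) :
    orderOf (QuotientGroup.mk (swapEl hF) :
      ↥(Cfsg.GU 3 F q) ⧸ Subgroup.center ↥(Cfsg.GU 3 F q)) = 2 := by
  haveI : Fact (Nat.Prime 2) := ⟨Nat.prime_two⟩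
  refine orderOf_eq_prime ?_ ?_
  · rw [sq, ← QuotientGroup.mk_mul]
    have : swapEl hF * swapEl hF = 1 := Subtype.ext (Units.ext (by
      show (swapEl hF).1.1 * (swapEl hF).1.1 = 1
      rw [swapEl_val]
      ext i j
      fin_cases i <;> fin_cases j <;> simp [Matrix.mul_apply, Fin.sum_univ_three]))
    rw [this]; rfl
  · intro h
    obtain ⟨u, hu⟩ := (mem_center_GU_iff hF).1 ((QuotientGroup.eq_one_iff _).1 h)
    have := congrFun (congrFun hu 0) 1
    simp [swapEl_val] at this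

/-- The centraliser of the image of the swap is the stabiliser of `(1,1,0)`. -/
theorem nonempty_centralizer_iso (hF : Fintype.card F = q ^ 2) :
    Nonempty (↥(Subgroup.centralizer ({(QuotientGroup.mk (swapEl hF) :
        ↥(Cfsg.GU 3 F q) ⧸ Subgroup.center ↥(Cfsg.GU 3 F q))} : Set _)) ≃*
      ↥(vecStab F q)) := by
  obtain ⟨n, hn, hq⟩ := exists_pow_eq hF
  have hq0 : q ≠ 0 := hq ▸ by positivity
  have h2 : (2 : F) = 0 := CharTwo.two_eq_zero
  set Z := Subgroup.center ↥(Cfsg.GU 3 F q)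
  have hsw : swapEl hF ∈ vecStab F q := by
    unfold swapEl transvEl
    exact stabEl_mem hF _ _ _ _ _
  have hswc : ∀ g : ↥(vecStab F q), g.1 * swapEl hF = swapEl hF * g.1 := fun g => by
    have hss : (⟨swapEl hF, hsw⟩ : ↥(vecStab F q)) * ⟨swapEl hF, hsw⟩ = 1 :=
      (mul_self_eq_one_iff hF).2 ⟨rfl, rfl⟩
    exact (congrArg Subtype.val ((vecStabData hF).central _ hss g)).symm
  let f : ↥(vecStab F q) →* ↥(Subgroup.centralizer ({(QuotientGroup.mk (swapEl hF) :
      ↥(Cfsg.GU 3 F q) ⧸ Z)} : Set _)) :=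
    (((QuotientGroup.mk' Z).comp (vecStab F q).subtype).codRestrict _ fun g => by
      rw [Subgroup.mem_centralizer_singleton_iff]
      show QuotientGroup.mk (g.1 * swapEl hF) = QuotientGroup.mk (swapEl hF * g.1)
      rw [hswc g])
  refine ⟨(MulEquiv.ofBijective f ⟨?_, ?_⟩).symm⟩
  · rw [injective_iff_map_eq_one]
    intro g hg
    obtain ⟨u, hu⟩ := (mem_center_GU_iff hF).1
      ((QuotientGroup.eq_one_iff _).1 (congrArg Subtype.val hg))
    have h1 : g.1.1.1 *ᵥ ![1, 1, 0] = ![1, 1, 0] := g.2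
    replace hu : g.1.1.1 = u • 1 := hu
    rw [hu] at h1
    have := congrFun h1 0
    simp [Matrix.smul_mulVec] at this
    refine Subtype.ext (Subtype.ext (Units.ext ?_))
    rw [hu, this, one_smul]; rfl
  · rintro ⟨x, hx⟩
    induction x using QuotientGroup.induction_on with
    | H g =>
    rw [Subgroup.mem_centralizer_singleton_iff] at hx
    have hx' : (g * swapEl hF)⁻¹ * (swapEl hF * g) ∈ Z := QuotientGroup.eq.1 hx
    obtain ⟨u, hu⟩ := (mem_center_GU_iff hF).1 hx'
    set A := g.1.1 with hA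
    set P := (swapEl hF).1.1 with hP
    have hPA : P * A = u • (A * P) := by
      have e : swapEl hF * g = g * swapEl hF * ((g * swapEl hF)⁻¹ * (swapEl hF * g)) := by group
      have := congrArg (fun z : ↥(Cfsg.GU 3 F q) => z.1.1) e
      simp only [Subgroup.coe_mul, Units.val_mul] at this
      simp only [Subgroup.coe_mul, Units.val_mul] at hu
      rw [hu] at this
      simpa using this
    have hPP : P * P = 1 := by
      rw [hP, swapEl_val]
      ext i j
      fin_cases i <;> fin_cases j <;> simp [Matrix.mul_apply, Fin.sum_univ_three]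
    have hu1 : u = 1 := by
      have e1 : A = (u * u) • A := by
        calc A = P * (P * A) * 1 := by rw [← Matrix.mul_assoc, hPP, one_mul, mul_one]
          _ = u • ((P * A) * P) := by
            rw [hPA, Matrix.mul_smul, ← Matrix.mul_assoc, Matrix.mul_one]
            rw [hPA]
          _ = (u * u) • A := by
            rw [hPA, Matrix.smul_mul, Matrix.mul_assoc, hPP, mul_one, smul_smul]
      have e2 : (u * u - 1) • A = 0 := by rw [sub_smul, one_smul, ← e1, sub_self]
      have hA0 : A ≠ 0 := fun h0 => by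
        have := g.1.mul_inv
        rw [← hA, h0, zero_mul] at this
        exact zero_ne_one this
      have := (smul_eq_zero.1 e2).resolve_right hA0
      have : (u + 1) ^ 2 = 0 := by grind
      have := eq_zero_of_pow_eq_zero this
      grind
    rw [hu1, one_smul, hP, swapEl_val] at hPA
    have p00 := congrFun (congrFun hPA 0) 0
    have p01 := congrFun (congrFun hPA 0) 1
    have p20 := congrFun (congrFun hPA 2) 0
    simp [Matrix.mul_apply, Fin.sum_univ_three] at p00 p01 p20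
    set lam := A 0 0 + A 0 1 with hlam
    have hAv : A *ᵥ ![1, 1, 0] = lam • ![1, 1, 0] := by
      funext i
      fin_cases i <;> simp [Matrix.mulVec, dotProduct, Fin.sum_univ_three, hlam] <;> grind
    have hlamN : lam ^ (q + 1) = 1 := by
      have e := mem_GU_iff.1 g.2 ![1, 1, 0] (Pi.single 0 1)
      rw [← hA, hAv] at e
      simp [Cfsg.hermForm, Fin.sum_univ_three, Pi.single_apply, zero_pow hq0] at e
      rw [pow_succ', hlam, pow_q_add hF]
      rw [show A 0 1 = A 1 0 from p00.symm] at *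
      grind
    have hl0 : lam ≠ 0 := fun h0 => by
      rw [h0, zero_pow (by omega)] at hlamN; exact zero_ne_one hlamN
    set z : ↥(Cfsg.GU 3 F q) := ⟨_, RootClasses.scalar_mem_GU (n := 3) (q := q)
      (x := (Units.mk0 lam hl0)⁻¹) (by
        rw [Units.val_inv_eq_inv_val, Units.val_mk0, inv_pow, hlamN, inv_one])⟩ with hz
    have hzv : z.1.1 = lam⁻¹ • 1 := by
      show Matrix.scalar (Fin 3) (((Units.mk0 lam hl0)⁻¹ : Fˣ) : F) = _
      rw [Matrix.scalar_apply, Matrix.smul_one_eq_diagonal, Units.val_inv_eq_inv_val, Units.val_mk0]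
    have hmem : g * z ∈ vecStab F q := by
      show (A * z.1.1) *ᵥ _ = _
      rw [hzv, Matrix.mul_smul, mul_one, Matrix.smul_mulVec, hAv, smul_smul,
        inv_mul_cancel₀ hl0, one_smul]
    refine ⟨⟨g * z, hmem⟩, Subtype.ext ?_⟩
    show QuotientGroup.mk (g * z) = _
    exact QuotientGroup.mk_mul_of_mem g ((mem_center_GU_iff hF).2 ⟨_, hzv⟩)

/-- Every involution centraliser isomorphic to one of `PGU₃(q)` carries the data. -/
theorem nonempty_centData (hF : Fintype.card F = q ^ 2) {C : Type*} [Group C]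
    (h : ∀ y : ↥(Cfsg.GU 3 F q) ⧸ Subgroup.center ↥(Cfsg.GU 3 F q), orderOf y = 2 →
      Nonempty (C ≃* ↥(Subgroup.centralizer ({y} : Set _)))) :
    Nonempty (CentData C F q) := by
  obtain ⟨e⟩ := h _ (swapMk_orderOf hF)
  obtain ⟨e'⟩ := nonempty_centralizer_iso hF
  exact ⟨(vecStabData hF).transport (e.trans e')⟩

/-- The order of `PGU₃(q)`. -/
theorem card_PGU (hF : Fintype.card F = q ^ 2) :
    Nat.card (↥(Cfsg.GU 3 F q) ⧸ Subgroup.center ↥(Cfsg.GU 3 F q)) =
      (q ^ 3 + 1) * q ^ 3 * (q ^ 2 - 1) := by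
  have h := (Subgroup.center ↥(Cfsg.GU 3 F q)).card_eq_card_quotient_mul_card_subgroup
  have hc : Nat.card (Subgroup.center ↥(Cfsg.GU 3 F q)) = q + 1 := by
    rw [← card_normOne hF]
    symm
    let f : normOne F q → Subgroup.center ↥(Cfsg.GU 3 F q) := fun u =>
      ⟨⟨_, RootClasses.scalar_mem_GU (n := 3) (x := (u : Fˣ)) (by
        rw [← Units.val_pow_eq_pow_val, mem_normOne.1 u.2, Units.val_one])⟩,
        (mem_center_GU_iff hF).2 ⟨((u : Fˣ) : F), by
          show Matrix.scalar (Fin 3) ((u : Fˣ) : F) = _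
          rw [Matrix.scalar_apply, Matrix.smul_one_eq_diagonal]⟩⟩
    refine Nat.card_eq_of_bijective f ⟨fun u v e => Subtype.ext (Units.ext ?_), fun z => ?_⟩
    · have := congrFun (congrFun (congrArg (fun z => z.1.1.1) e) 0) 0
      simpa [f] using this
    · obtain ⟨x, hx, hxz⟩ := RootClasses.exists_scalar_of_mem_center_GU hF (by norm_num) z.2
      exact ⟨⟨x, mem_normOne.2 (Units.ext (by rw [Units.val_pow_eq_pow_val, hx, Units.val_one]))⟩,
        Subtype.ext (Subtype.ext hxz)⟩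
  rw [hc, CfsgLib.Forms.card_GU hF 3] at h
  simp [Finset.sum_range_succ, Finset.prod_range_succ, CfsgLib.Forms.u_succ] at h
  apply Nat.eq_of_mul_eq_mul_right (show 0 < q + 1 by omega)
  rw [← h]
  ring

end CfsgLib.SuzukiU
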