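import Cfsg.Agent.SuzukiU.Basic

/-!
# The stabiliser of two points

For two points `x ≠ y`, `D = G_{xy}` is abelian of order `(q - 1) f` with `f ∣ q + 1`; its subgroup
of order `q - 1` is inverted by every involution interchanging `x` and `y`.
-/

set_option autoImplicit false
set_option linter.unusedSectionVars false
set_option linter.style.haveILetI false

namespace CfsgLib.SuzukiU

open CfsgLib.SEmbed CfsgLib.Small

/-- Every involution fixes one point, commuting involutions are those fixing the same point, and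
involution centralisers are those of `PGU₃(q)`. -/
structure Frame (G : Type*) [Group G] (Ω : Type*) [MulAction G Ω] (F : Type*) [Field F] (q : ℕ) :
    Prop where
  fix : UniqueFix G Ω
  nontriv : Nontrivial Ω
  data : CentHyp G F q
  comm : ∀ s t : G, ∀ x : Ω, s ∈ invMap (G := G) x x → t ∈ invMap (G := G) x x → Commute s t

variable {G : Type*} [Group G] [Finite G] {Ω : Type*} [MulAction G Ω]
  {F : Type*} [Field F] [Fintype F] [CharP F 2] {q : ℕ}

theorem card_eq_mul_of_transitive (D : Subgroup G) (X : Set G)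
    (hX : ∀ d ∈ D, ∀ s ∈ X, d * s * d⁻¹ ∈ X) {s₀ : G} (hs₀ : s₀ ∈ X)
    (htr : ∀ s ∈ X, ∃ d ∈ D, d * s₀ * d⁻¹ = s) :
    Nat.card D = Nat.card X * Nat.card ↥(D ⊓ Subgroup.centralizer ({s₀} : Set G)) := by
  classical
  set S := Subgroup.centralizer ({s₀} : Set G)
  choose r hr hr' using fun s : X => htr s.1 s.2
  let e : D ≃ X × ↥(D ⊓ S) :=
    { toFun := fun d => (⟨(d : G) * s₀ * (d : G)⁻¹, hX _ d.2 _ hs₀⟩,
        ⟨(r ⟨(d : G) * s₀ * (d : G)⁻¹, hX _ d.2 _ hs₀⟩)⁻¹ * d, D.mul_mem (D.inv_mem (hr _)) d.2, by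
          set e := r ⟨(d : G) * s₀ * (d : G)⁻¹, hX _ d.2 _ hs₀⟩ with he
          have h := hr' ⟨(d : G) * s₀ * (d : G)⁻¹, hX _ d.2 _ hs₀⟩
          rw [← he] at h
          refine Subgroup.mem_centralizer_singleton_iff.2 ?_
          calc e⁻¹ * d * s₀ = e⁻¹ * ((d : G) * s₀ * (d : G)⁻¹) * d := by group
            _ = e⁻¹ * (e * s₀ * e⁻¹) * d := by rw [show e * s₀ * e⁻¹ = _ from h]
            _ = _ := by group⟩)
      invFun := fun p => ⟨r p.1 * p.2.1, mul_mem (hr _) p.2.2.1⟩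
      left_inv := fun d => Subtype.ext (by simp)
      right_inv := fun p => by
        have h : r p.1 * p.2.1 * s₀ * (r p.1 * p.2.1)⁻¹ = p.1.1 := by
          have hc : p.2.1 * s₀ = s₀ * p.2.1 :=
            Subgroup.mem_centralizer_singleton_iff.1 p.2.2.2
          calc r p.1 * p.2.1 * s₀ * (r p.1 * p.2.1)⁻¹
              = r p.1 * (p.2.1 * s₀) * p.2.1⁻¹ * (r p.1)⁻¹ := by group
            _ = r p.1 * s₀ * (r p.1)⁻¹ := by rw [hc]; group
            _ = _ := hr' _
        have h1 : (⟨r p.1 * p.2.1 * s₀ * (r p.1 * p.2.1)⁻¹,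
            hX _ (mul_mem (hr _) p.2.2.1) _ hs₀⟩ : X) = p.1 := Subtype.ext h
        refine Prod.ext h1 (Subtype.ext ?_)
        simp only [h1, inv_mul_cancel_left] }
  rw [Nat.card_congr e, Nat.card_prod]

variable (Φ : Frame G Ω F q) (hF : Fintype.card F = q ^ 2)
include Φ

theorem Frame.cent_le_stab {t : G} {x : Ω} (ht : t ∈ invMap (G := G) x x) :
    Subgroup.centralizer ({t} : Set G) ≤ MulAction.stabilizer G x := fun _ hc =>
  commute_fix Φ.fix ht.1 (Subgroup.mem_centralizer_singleton_iff.1 hc) ht.2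

theorem Frame.cent_eq {s t : G} {x : Ω} (hs : s ∈ invMap (G := G) x x)
    (ht : t ∈ invMap (G := G) x x) :
    Subgroup.centralizer ({s} : Set G) = Subgroup.centralizer ({t} : Set G) :=
  cent_eq_of_commute Φ.data hs.1 ht.1 (Φ.comm s t x hs ht)

include hF in
theorem Frame.card_invMap_fix (x : Ω) : Nat.card (invMap (G := G) x x) = q - 1 := by
  classical
  obtain ⟨t, ht⟩ := Φ.fix.exists_inv x
  obtain ⟨d⟩ := Φ.data t ht.1
  haveI := Fintype.ofFinite ↥(Subgroup.centralizer ({t} : Set G))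
  let e : Option (invMap (G := G) x x) ≃ {c : ↥(Subgroup.centralizer ({t} : Set G)) // c * c = 1} :=
    Equiv.ofBijective (fun o => o.elim ⟨1, mul_one 1⟩ fun s =>
      ⟨⟨s.1, Subgroup.mem_centralizer_singleton_iff.2 (Φ.comm _ _ x s.2 ht).eq⟩,
        Subtype.ext (mul_self_of_orderOf_two s.2.1)⟩) (by
      constructor
      · rintro (_ | u) (_ | v) h
        · rfl
        · have h1 : (1 : G) = v.1 := congrArg (fun c => c.1.1) h
          exact absurd v.2.1 (by rw [← h1, orderOf_one]; norm_num)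
        · have h1 : u.1 = (1 : G) := congrArg (fun c => c.1.1) h
          exact absurd u.2.1 (by rw [h1, orderOf_one]; norm_num)
        · exact congrArg some (Subtype.ext (congrArg (fun c => c.1.1) h))
      · rintro ⟨⟨c, hc⟩, hcc⟩
        by_cases h1 : c = 1
        · exact ⟨none, Subtype.ext (Subtype.ext h1.symm)⟩
        · have hc2 : c * c = 1 := congrArg Subtype.val hcc
          have ho : orderOf c = 2 := orderOf_eq_prime (by rw [sq, hc2]) h1
          exact ⟨some ⟨c, ho, commute_fix Φ.fix ht.1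
            (Subgroup.mem_centralizer_singleton_iff.1 hc) ht.2⟩, Subtype.ext (Subtype.ext rfl)⟩)
  have h := Nat.card_congr e
  rw [Finite.card_option, d.card_sq_one hF] at h
  omega

theorem Frame.conj_fix {g s : G} {x : Ω} (hg : g • x = x) (hs : s ∈ invMap (G := G) x x) :
    g * s * g⁻¹ ∈ invMap (G := G) x x := by
  refine ⟨by rw [orderOf_conj_eq]; exact hs.1, ?_⟩
  rw [mul_smul, mul_smul, inv_smul_eq_iff.2 hg.symm, hs.2, hg]

theorem Frame.conj_cent {g c t : G} {x : Ω} (hg : g • x = x) (ht : t ∈ invMap (G := G) x x)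
    (hc : c ∈ Subgroup.centralizer ({t} : Set G)) :
    g * c * g⁻¹ ∈ Subgroup.centralizer ({t} : Set G) := by
  rw [← Φ.cent_eq (Φ.conj_fix hg ht) ht, Subgroup.mem_centralizer_singleton_iff]
  have := Subgroup.mem_centralizer_singleton_iff.1 hc
  calc g * c * g⁻¹ * (g * t * g⁻¹) = g * (c * t) * g⁻¹ := by group
    _ = g * (t * c) * g⁻¹ := by rw [this]
    _ = _ := by group

theorem Frame.exists_decomp {g t : G} {x y : Ω} (hxy : x ≠ y) (hg : g • x = x)
    (ht : t ∈ invMap (G := G) x x) :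
    ∃ d ∈ pairStab G x y, ∃ c ∈ Subgroup.centralizer ({t} : Set G), g = d * c := by
  obtain ⟨d, hd, he⟩ := exists_conj_fix Φ.fix hxy ht (Φ.conj_fix hg ht)
  refine ⟨d, hd, d⁻¹ * g, Subgroup.mem_centralizer_singleton_iff.2 ?_, by group⟩
  calc d⁻¹ * g * t = d⁻¹ * (g * t * g⁻¹) * g := by group
    _ = d⁻¹ * (d * t * d⁻¹) * g := by rw [he]
    _ = _ := by group

include hF in
theorem Frame.card_stab (x : Ω) :
    Nat.card (MulAction.stabilizer G x) = (q - 1) * (q ^ 3 * (q + 1)) := by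
  haveI := Φ.nontriv
  obtain ⟨t, ht⟩ := Φ.fix.exists_inv x
  obtain ⟨y, hy⟩ := exists_ne x
  obtain ⟨d⟩ := Φ.data t ht.1
  rw [card_eq_mul_of_transitive (MulAction.stabilizer G x) (invMap (G := G) x x)
    (fun g hg s hs => Φ.conj_fix hg hs) ht, Φ.card_invMap_fix hF x,
    inf_eq_right.2 (Φ.cent_le_stab ht), d.card hF]
  intro s hs
  obtain ⟨e, he, hes⟩ := exists_conj_fix Φ.fix hy.symm ht hs
  exact ⟨e, (mem_pairStab.1 he).1, hes⟩

include hF in
theorem Frame.card_pair {t : G} {x y : Ω} (hxy : x ≠ y) (ht : t ∈ invMap (G := G) x x) :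
    Nat.card (pairStab G x y) =
      (q - 1) * Nat.card ↥(pairStab G x y ⊓ Subgroup.centralizer ({t} : Set G)) := by
  rw [card_eq_mul_of_transitive (pairStab G x y) (invMap (G := G) x x)
    (fun g hg s hs => Φ.conj_fix (mem_pairStab.1 hg).1 hs) ht
    (fun s hs => exists_conj_fix Φ.fix hxy ht hs), Φ.card_invMap_fix hF x]

include hF in
/-- Odd order elements centralising an involution have order dividing `q + 1`. -/
theorem Frame.pow_succ_eq_one {t z : G} (ht : orderOf t = 2) (hz : Odd (orderOf z))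
    (hc : z ∈ Subgroup.centralizer ({t} : Set G)) : z ^ (q + 1) = 1 := by
  obtain ⟨d⟩ := Φ.data t ht
  obtain ⟨n, hn, hq⟩ := exists_pow_eq hF
  have h1 : d.chi (⟨z, hc⟩ ^ (q + 1)) = 1 := by rw [map_pow, d.chi_pow]
  have h2 : (z ^ (q + 1)) ^ q ^ 3 = 1 := congrArg Subtype.val (d.pow_card_ker h1)
  refine eq_one_of_pow_coprime (a := orderOf z) ?_ h2 ?_
  · rw [← pow_mul, mul_comm, pow_mul, pow_orderOf_eq_one, one_pow]
  · rw [hq, ← pow_mul]
    exact (Nat.coprime_two_right.2 hz).pow_right _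

include hF in
theorem Frame.pow_sub_one_mem {t d : G} {x y : Ω} (hxy : x ≠ y) (ht : t ∈ invMap (G := G) x x)
    (hd : d ∈ pairStab G x y) : d ^ (q - 1) ∈ Subgroup.centralizer ({t} : Set G) := by
  set D := pairStab G x y
  set N := (D ⊓ Subgroup.centralizer ({t} : Set G)).subgroupOf D
  haveI : N.Normal := ⟨fun n hn g => Subgroup.mem_subgroupOf.2
    ⟨(g * n * g⁻¹).2, Φ.conj_cent (mem_pairStab.1 g.2).1 ht hn.2⟩⟩
  have hidx : N.index = q - 1 := by
    have h := N.index_mul_card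
    rw [Nat.card_congr (Subgroup.subgroupOfEquivOfLe
      (inf_le_left (a := D) (b := Subgroup.centralizer ({t} : Set G)))).toEquiv,
      Φ.card_pair hF hxy ht] at h
    exact Nat.eq_of_mul_eq_mul_right Nat.card_pos h
  exact (hidx ▸ N.pow_index_mem ⟨d, hd⟩ : (⟨d, hd⟩ : D) ^ (q - 1) ∈ N).2

include hF in
theorem Frame.mem_cent_iff_pow {t d : G} {x y : Ω} (hxy : x ≠ y) (ht : t ∈ invMap (G := G) x x)
    (hd : d ∈ pairStab G x y) :
    d ∈ Subgroup.centralizer ({t} : Set G) ↔ d ^ (q + 1) = 1 := by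
  refine ⟨fun hc => Φ.pow_succ_eq_one hF ht.1
    ((odd_pairStab Φ.fix hxy).of_dvd_nat (Subgroup.orderOf_dvd_natCard _ hd)) hc, fun h => ?_⟩
  exact mem_of_pow_mem (Φ.pow_sub_one_mem hF hxy ht hd) (h ▸ one_mem _)
    (coprime_sub_add (even_q hF).1 (even_q hF).2)

theorem conj_mem_pairStab {w d : G} {x y : Ω} (hw : w ∈ invMap (G := G) x y)
    (hd : d ∈ pairStab G x y) : w * d * w⁻¹ ∈ pairStab G x y := by
  obtain ⟨h1, h2⟩ := mem_pairStab.1 hd
  rw [inv_eq_self_of_orderOf_two hw.1]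
  refine mem_pairStab.2 ⟨?_, ?_⟩
  · rw [mul_smul, mul_smul, hw.2, h2, smul_back hw.1 hw.2]
  · rw [mul_smul, mul_smul, smul_back hw.1 hw.2, h1, hw.2]

include hF in
/-- The centraliser of a swapper in `D` is the centraliser of an involution fixing a point. -/
theorem Frame.inf_cent_swap {t w : G} {x y : Ω} (hxy : x ≠ y) (ht : t ∈ invMap (G := G) x x)
    (hw : w ∈ invMap (G := G) x y) :
    pairStab G x y ⊓ Subgroup.centralizer ({w} : Set G) =
      pairStab G x y ⊓ Subgroup.centralizer ({t} : Set G) := by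
  have hle : pairStab G x y ⊓ Subgroup.centralizer ({w} : Set G) ≤
      pairStab G x y ⊓ Subgroup.centralizer ({t} : Set G) := fun d hd =>
    ⟨hd.1, (Φ.mem_cent_iff_pow hF hxy ht hd.1).2 (Φ.pow_succ_eq_one hF hw.1
      ((odd_pairStab Φ.fix hxy).of_dvd_nat (Subgroup.orderOf_dvd_natCard _ hd.1)) hd.2)⟩
  refine Subgroup.eq_of_le_of_card_ge hle (le_of_eq ?_)
  have h1 := card_eq_mul_of_transitive (pairStab G x y) (invMap (G := G) x y)
    (fun d hd s hs => by
      refine ⟨by rw [orderOf_conj_eq]; exact hs.1, ?_⟩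
      obtain ⟨h1, h2⟩ := mem_pairStab.1 hd
      rw [mul_smul, mul_smul, inv_smul_eq_iff.2 h1.symm, hs.2, h2]) hw
    (fun s hs => exists_conj_swap Φ.fix hxy hw hs)
  rw [card_invMap_eq Φ.fix hxy, Φ.card_invMap_fix hF x, Φ.card_pair hF hxy ht] at h1
  have hq1 : 0 < q - 1 := by
    obtain ⟨n, hn, hq⟩ := exists_pow_eq hF
    have : 2 ≤ q := hq ▸ le_trans (by norm_num) (Nat.pow_le_pow_right two_pos hn)
    omega
  exact Nat.eq_of_mul_eq_mul_left hq1 h1

theorem Frame.exists_swap {x y : Ω} (hxy : x ≠ y) :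
    ∃ w, w ∈ invMap (G := G) x y := by
  obtain ⟨i, hi, hix⟩ := Φ.fix.exists_inv x
  obtain ⟨j, hj, hjy⟩ := Φ.fix.exists_inv y
  obtain ⟨w, hw, -⟩ := exists_interchange Φ.fix hi hj hix hjy hxy
  exact ⟨w, hw⟩

include hF in
/-- `D` is abelian. -/
theorem Frame.pair_comm {x y : Ω} (hxy : x ≠ y) {u v : G} (hu : u ∈ pairStab G x y)
    (hv : v ∈ pairStab G x y) : u * v = v * u := by
  obtain ⟨t, ht⟩ := Φ.fix.exists_inv x
  obtain ⟨w, hw⟩ := Φ.exists_swap hxy
  set D := pairStab G x y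
  set D1 := D ⊓ Subgroup.centralizer ({t} : Set G) with hD1
  set ι : G →* G := (MulAut.conj w).toMonoidHom with hι
  have hιι : ∀ d, ι (ι d) = d := fun d => by
    simp only [hι, MulEquiv.toMonoidHom_eq_coe, MonoidHom.coe_coe, MulAut.conj_apply]
    have := mul_self_of_orderOf_two hw.1
    rw [inv_eq_self_of_orderOf_two hw.1]
    calc w * (w * d * w) * w = (w * w) * d * (w * w) := by group
      _ = d := by rw [this, one_mul, mul_one]
  have hιD : ∀ d ∈ D, ι d ∈ D := fun d hd => conj_mem_pairStab Φ hw hd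
  have hfix : ∀ d ∈ D, (ι d = d ↔ d ∈ D1) := by
    intro d hd
    rw [hD1, ← Φ.inf_cent_swap hF hxy ht hw, Subgroup.mem_inf, and_iff_right hd,
      Subgroup.mem_centralizer_singleton_iff]
    show w * d * w⁻¹ = d ↔ _
    exact ⟨fun h => (mul_inv_eq_iff_eq_mul.1 h).symm, fun h => mul_inv_eq_iff_eq_mul.2 h.symm⟩
  have hodd : ∀ d ∈ D, Odd (orderOf d) := fun d hd =>
    (odd_pairStab Φ.fix hxy).of_dvd_nat (Subgroup.orderOf_dvd_natCard _ hd)
  -- every element is a fixed one times an inverted one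
  have hdec : ∀ d ∈ D, ∃ e ∈ D1, ∃ i ∈ D, ι i = i⁻¹ ∧ d = e * i := by
    intro d hd
    set z := d⁻¹ * ι d with hz
    have hzD : z ∈ D := mul_mem (inv_mem hd) (hιD d hd)
    have hιz : ι z = z⁻¹ := by rw [hz, map_mul, map_inv, hιι]; group
    obtain ⟨k, hk⟩ := hodd z hzD
    obtain ⟨u, huz⟩ : ∃ u, u = z ^ (k + 1) := ⟨_, rfl⟩
    have huu : u * u = z := by
      rw [huz, ← pow_add, show k + 1 + (k + 1) = orderOf z + 1 by omega, pow_succ,
        pow_orderOf_eq_one, one_mul]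
    have hιu : ι u = u⁻¹ := by rw [huz, map_pow, hιz, inv_pow]
    refine ⟨d * u, ?_, u⁻¹, huz ▸ inv_mem (pow_mem hzD _), by rw [map_inv, hιu], by group⟩
    refine (hfix _ (mul_mem hd (huz ▸ pow_mem hzD _))).1 ?_
    rw [map_mul, hιu, show ι d = d * z by rw [hz]; group, ← huu]
    group
  -- fixed and inverted elements commute
  have hcen : ∀ e ∈ D1, ∀ i ∈ D, ι i = i⁻¹ → Commute i e := by
    intro e he i hi hιi
    have he' : i * e * i⁻¹ ∈ D1 :=
      ⟨D.mul_mem (D.mul_mem hi he.1) (D.inv_mem hi), Φ.conj_cent (mem_pairStab.1 hi).1 ht he.2⟩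
    have h := (hfix _ he'.1).2 he'
    rw [map_mul, map_mul, map_inv, hιi, (hfix _ he.1).2 he, inv_inv] at h
    have h2 : Commute (i ^ 2) e := by
      show i ^ 2 * e = e * i ^ 2
      rw [sq]
      calc i * i * e = i * (i * e * i⁻¹) * i := by group
        _ = i * (i⁻¹ * e * i) * i := by rw [h]
        _ = e * (i * i) := by group
    obtain ⟨k, hk⟩ := hodd i hi
    have h3 := h2.pow_left (k + 1)
    rw [← pow_mul, show 2 * (k + 1) = orderOf i + 1 by omega, pow_succ, pow_orderOf_eq_one,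
      one_mul] at h3
    exact h3
  have hinvpow : ∀ i ∈ D, ι i = i⁻¹ → i ^ (q - 1) = 1 := by
    intro i hi hιi
    have hm : i ^ (q - 1) ∈ D1 := ⟨pow_mem hi _, Φ.pow_sub_one_mem hF hxy ht hi⟩
    have h := (hfix _ hm.1).2 hm
    rw [map_pow, hιi, inv_pow, inv_eq_iff_mul_eq_one] at h
    obtain ⟨k, hk⟩ := hodd _ hm.1
    have := pow_orderOf_eq_one (i ^ (q - 1))
    rw [hk, pow_succ, pow_mul, sq, h, one_pow, one_mul] at this
    exact this
  -- inverted elements commute
  have hii : ∀ i ∈ D, ∀ j ∈ D, ι i = i⁻¹ → ι j = j⁻¹ → Commute i j := by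
    intro i hi j hj hιi hιj
    obtain ⟨e, he, k, hk, hιk, hij⟩ := hdec (i * j) (mul_mem hi hj)
    have h1 := congrArg ι hij
    rw [map_mul, map_mul, hιi, hιj, (hfix _ he.1).2 he, hιk] at h1
    have hk' : k = e⁻¹ * (i * j) := by rw [hij]; group
    rw [hk'] at h1
    have hcomm : i⁻¹ * j⁻¹ = e * e * (j⁻¹ * i⁻¹) := by
      have hje : Commute j e := hcen e he j hj hιj
      have hie : Commute i e := hcen e he i hi hιi
      have hc : Commute (j⁻¹ * i⁻¹) e := hje.inv_left.mul_left hie.inv_left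
      calc i⁻¹ * j⁻¹ = e * (e⁻¹ * (i * j))⁻¹ := h1
        _ = e * ((j⁻¹ * i⁻¹) * e) := by group
        _ = _ := by rw [hc.eq, mul_assoc]
    -- the commutator lies in the fixed part and has order dividing `q - 1`
    set c := i⁻¹ * j⁻¹ * i * j with hc
    have hcE : c = e * e := by
      calc c = i⁻¹ * j⁻¹ * (j⁻¹ * i⁻¹)⁻¹ := by rw [hc]; group
        _ = _ := by rw [hcomm]; group
    have hcD1 : c ∈ D1 := hcE ▸ mul_mem he he
    have hci : Commute c i := (hcen c hcD1 i hi hιi).symm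
    have hpow : ∀ m : ℕ, j⁻¹ * i ^ m * j = i ^ m * c ^ m := by
      intro m
      have h0 : j⁻¹ * i * j = i * c := by rw [hc]; group
      rw [← hci.symm.mul_pow, ← h0]
      simpa using map_pow (MulAut.conj j⁻¹) i m
    have hc1 : c ^ (q - 1) = 1 := by
      have h := hpow (q - 1)
      rw [hinvpow i hi hιi, mul_one, inv_mul_cancel, one_mul] at h
      exact h.symm
    have hc2 : c ^ (q + 1) = 1 := (Φ.mem_cent_iff_pow hF hxy ht hcD1.1).1 hcD1.2
    have hc0 := eq_one_of_pow_coprime hc1 hc2 (coprime_sub_add (even_q hF).1 (even_q hF).2)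
    show i * j = j * i
    calc i * j = j * i * c := by rw [hc]; group
      _ = j * i := by rw [hc0, mul_one]
  -- fixed elements commute
  have hee : ∀ e ∈ D1, ∀ e' ∈ D1, Commute e e' := by
    intro e he e' he'
    obtain ⟨dd⟩ := Φ.data t ht.1
    have h1 : dd.chi (⟨e, he.2⟩ * ⟨e', he'.2⟩ * (⟨e', he'.2⟩ * ⟨e, he.2⟩)⁻¹) = 1 := by
      rw [map_mul, map_inv, map_mul, map_mul, mul_comm (dd.chi ⟨e', _⟩), mul_inv_cancel]
    have h2 := congrArg Subtype.val (dd.pow_card_ker h1)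
    simp only [SubmonoidClass.coe_pow, Subgroup.coe_mul, InvMemClass.coe_inv,
      OneMemClass.coe_one] at h2
    have h3 : e * e' * (e' * e)⁻¹ = 1 := by
      refine eq_one_of_pow_coprime ((Φ.mem_cent_iff_pow hF hxy ht
        (mul_mem (mul_mem he.1 he'.1) (inv_mem (mul_mem he'.1 he.1)))).1
        (mul_mem (mul_mem he.2 he'.2) (inv_mem (mul_mem he'.2 he.2)))) h2 (coprime_cube_succ hF).symm
    exact mul_inv_eq_one.1 h3
  obtain ⟨e, he, i, hi, hιi, rfl⟩ := hdec u hu
  obtain ⟨e', he', j, hj, hιj, rfl⟩ := hdec v hv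
  exact (((hee e he e' he').mul_right (hcen e he j hj hιj).symm).mul_left
    ((hcen e' he' i hi hιi).mul_right (hii i hi j hj hιi hιj))).eq

include hF in
/-- The subgroup of order `q - 1` of a two point stabiliser. -/
theorem Frame.exists_torus {x y : Ω} (hxy : x ≠ y) :
    ∃ K : Subgroup G, K ≤ pairStab G x y ∧ Nat.card K = q - 1 ∧
      (∀ d ∈ pairStab G x y, d ^ (q - 1) = 1 → d ∈ K) ∧
      ∀ w ∈ invMap (G := G) x y, ∀ k ∈ K, w * k * w⁻¹ = k⁻¹ := by
  obtain ⟨t, ht⟩ := Φ.fix.exists_inv x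
  set D := pairStab G x y
  letI : CommGroup D :=
    { (inferInstance : Group D) with
      mul_comm := fun u v => Subtype.ext (Φ.pair_comm hF hxy u.2 v.2) }
  set f : D →* D := powMonoidHom (q - 1)
  set K : Subgroup G := f.ker.map D.subtype
  have hrange : f.range = (D ⊓ Subgroup.centralizer ({t} : Set G)).subgroupOf D := by
    ext d
    constructor
    · rintro ⟨u, rfl⟩
      exact ⟨(f u).2, Φ.pow_sub_one_mem hF hxy ht u.2⟩
    · intro hd
      have hp : (d : G) ^ (q + 1) = 1 := (Φ.mem_cent_iff_pow hF hxy ht d.2).1 hd.2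
      obtain ⟨k, hk⟩ := exists_pow_eq_self_of_coprime
        ((coprime_sub_add (even_q hF).1 (even_q hF).2).of_dvd_right
          (orderOf_dvd_iff_pow_eq_one.2 hp))
      refine ⟨d ^ k, Subtype.ext ?_⟩
      show ((d : G) ^ k) ^ (q - 1) = d
      rw [← pow_mul, mul_comm, pow_mul, hk]
  have hcard : Nat.card f.ker = q - 1 := by
    have h := Subgroup.card_eq_card_quotient_mul_card_subgroup f.ker
    rw [Nat.card_congr (QuotientGroup.quotientKerEquivRange f).toEquiv, hrange,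
      Nat.card_congr (Subgroup.subgroupOfEquivOfLe
        (inf_le_left (a := D) (b := Subgroup.centralizer ({t} : Set G)))).toEquiv,
      Φ.card_pair hF hxy ht, mul_comm] at h
    exact (Nat.eq_of_mul_eq_mul_left Nat.card_pos h).symm
  refine ⟨K, fun g hg => ?_, ?_, fun d hd hp => ⟨⟨d, hd⟩, Subtype.ext hp, rfl⟩, ?_⟩
  · obtain ⟨u, -, rfl⟩ := hg
    exact u.2
  · rw [← hcard]
    exact (Nat.card_congr (f.ker.equivMapOfInjective _ D.subtype_injective).toEquiv).symm
  · rintro w hw _ ⟨k, hk, rfl⟩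
    have hk1 : (k : G) ^ (q - 1) = 1 := congrArg Subtype.val hk
    show w * (k : G) * w⁻¹ = (k : G)⁻¹
    set j := w * (k : G) * w⁻¹ with hj
    have hjD : j ∈ D := conj_mem_pairStab Φ hw k.2
    have hc : (j * k : G) ∈ D ⊓ Subgroup.centralizer ({w} : Set G) := by
      refine ⟨mul_mem hjD k.2, Subgroup.mem_centralizer_singleton_iff.2 ?_⟩
      have hww := mul_self_of_orderOf_two hw.1
      have hjw : j * w = w * k := by rw [hj]; group
      have hwj : w * j = (k : G) * w := by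
        rw [hj, inv_eq_self_of_orderOf_two hw.1]
        calc w * (w * (k : G) * w) = (w * w) * ((k : G) * w) := by group
          _ = _ := by rw [hww, one_mul]
      calc j * (k : G) * w = j * ((k : G) * w) := mul_assoc _ _ _
        _ = j * (w * j) := by rw [hwj]
        _ = (j * w) * j := (mul_assoc _ _ _).symm
        _ = w * ((k : G) * j) := by rw [hjw, mul_assoc]
        _ = w * (j * k) := by rw [Φ.pair_comm hF hxy k.2 hjD]
    rw [Φ.inf_cent_swap hF hxy ht hw] at hc
    have hp1 : (j * k : G) ^ (q + 1) = 1 := (Φ.mem_cent_iff_pow hF hxy ht hc.1).1 hc.2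
    have hp2 : (j * k : G) ^ (q - 1) = 1 := by
      rw [(show Commute j (k : G) from Φ.pair_comm hF hxy hjD k.2).mul_pow, hk1, mul_one, hj,
        conj_pow, hk1, mul_one, mul_inv_cancel]
    exact eq_inv_of_mul_eq_one_left
      (eq_one_of_pow_coprime hp2 hp1 (coprime_sub_add (even_q hF).1 (even_q hF).2))

end CfsgLib.SuzukiU
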