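import Cfsg.Agent.SuzukiU.Model
import Mathlib.FieldTheory.Fixed
import Mathlib.NumberTheory.Padics.PadicVal.Basic

/-!
# An abelian group of order `q - 1` normalising the norm-one multiplications centralises them

`F` has `q²` elements, `q = 2ⁿ`; `φ` is a faithful action by additive maps of a commutative group of
order `q - 1`, each map conjugating multiplications by norm-one elements to such multiplications.
Then every `φ k` commutes with those multiplications.
-/

set_option autoImplicit false
set_option linter.unusedSectionVars false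

namespace CfsgLib.SuzukiU

variable {F : Type*} [Field F] [Fintype F] [CharP F 2] {q : ℕ}

theorem closure_normOne_eq_top (hF : Fintype.card F = q ^ 2) :
    Subring.closure {x : F | x ^ (q + 1) = 1} = ⊤ := by
  classical
  obtain ⟨n, hn, hq⟩ := exists_pow_eq hF
  set S := Subring.closure {x : F | x ^ (q + 1) = 1}
  letI : Field S := Fintype.fieldOfDomain S
  have hlarge : q < Nat.card S := by
    have h1 : q + 1 ≤ Nat.card S := by
      rw [← AutPSU.card_normOne hF]
      refine Nat.card_le_card_of_injective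
        (fun u : AutPSU.normOne F q => (⟨((u : Fˣ) : F), Subring.subset_closure (by
          show ((u : Fˣ) : F) ^ (q + 1) = 1
          rw [← Units.val_pow_eq_pow_val, AutPSU.mem_normOne.1 u.2, Units.val_one])⟩ : S)) ?_
      intro a b h
      exact Subtype.ext (Units.ext (congrArg Subtype.val h))
    omega
  have hcard : Nat.card F = Nat.card S ^ Module.finrank S F := Module.natCard_eq_pow_finrank
  have hpos : 0 < Module.finrank S F := Module.finrank_pos
  rcases lt_or_ge 1 (Module.finrank S F) with h | h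
  · exfalso
    have : Nat.card S ^ 2 ≤ Nat.card F := by
      rw [hcard]; exact Nat.pow_le_pow_right Nat.card_pos h
    rw [Nat.card_eq_fintype_card (α := F), hF] at this
    exact absurd this (not_le.2 (Nat.pow_lt_pow_left hlarge two_ne_zero))
  · rw [show Module.finrank S F = 1 by omega, pow_one] at hcard
    exact SetLike.coe_injective (Set.eq_of_subset_of_ncard_le (Set.subset_univ _)
      (by rw [Subring.coe_top, Set.ncard_univ, hcard, ← Nat.card_coe_set_eq]; rfl) (Set.toFinite _))

theorem pow_sub_one_gt {x r : ℕ} (hx : 2 ≤ x) (hr : 2 ≤ r) : r * (x - 1) < x ^ r - 1 := by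
  obtain ⟨y, rfl⟩ : ∃ y, x = y + 1 := ⟨x - 1, by omega⟩
  induction r, hr using Nat.le_induction with
  | base =>
    have : (y + 1) ^ 2 = y * y + 2 * y + 1 := by ring
    have : 0 < y * y := Nat.mul_pos (by omega) (by omega)
    simp only [Nat.add_sub_cancel]; omega
  | succ r hr ih =>
    have h1 : (y + 1) ^ (r + 1) = (y + 1) ^ r * y + (y + 1) ^ r := by ring
    have h2 : y ≤ (y + 1) ^ r * y := Nat.le_mul_of_pos_left _ (by positivity)
    have h3 : (r + 1) * y = r * y + y := by ring
    simp only [Nat.add_sub_cancel] at ih ⊢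
    omega

theorem normalising_commutes (hF : Fintype.card F = q ^ 2) (hq : 2 < q)
    {K : Type*} [CommGroup K] [Finite K] (hK : Nat.card K = q - 1) (φ : K → F → F)
    (hone : ∀ x, φ 1 x = x) (hmul : ∀ k l x, φ (k * l) x = φ k (φ l x))
    (hadd : ∀ k x y, φ k (x + y) = φ k x + φ k y) (hinj : ∀ k, (∀ x, φ k x = x) → k = 1)
    (hnorm : ∀ k, ∀ μ : F, μ ^ (q + 1) = 1 →
      ∃ μ' : F, μ' ^ (q + 1) = 1 ∧ ∀ x, φ k (μ * x) = μ' * φ k x)
    (k : K) (μ : F) (hμ : μ ^ (q + 1) = 1) (x : F) : φ k (μ * x) = μ * φ k x := by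
  classical
  obtain ⟨n, hn, hqn⟩ := exists_pow_eq hF
  haveI := Fintype.ofFinite K
  have hinv : ∀ k x, φ k⁻¹ (φ k x) = x := fun k x => by rw [← hmul, inv_mul_cancel, hone]
  have hzero : ∀ k, φ k 0 = 0 := fun k => by
    have := hadd k 0 0
    rw [add_zero] at this
    simpa using this
  have hc : ∀ k, φ k 1 ≠ 0 := fun k h => one_ne_zero (α := F)
    (by rw [← hinv k 1, h, hzero])
  let σ : K → F → F := fun k x => φ k x / φ k 1
  have hφ : ∀ k x, φ k x = φ k 1 * σ k x := fun k x => by
    simp only [σ]; field_simp [hc k]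
  have hσ1 : ∀ k, σ k 1 = 1 := fun k => div_self (hc k)
  have hσadd : ∀ k x y, σ k (x + y) = σ k x + σ k y := fun k x y => by
    simp only [σ, hadd, add_div]
  have hσ0 : ∀ k, σ k 0 = 0 := fun k => by simp only [σ, hzero, zero_div]
  have hσμ : ∀ k, ∀ μ : F, μ ^ (q + 1) = 1 → ∀ x, σ k (μ * x) = σ k μ * σ k x := by
    intro k μ hμ x
    obtain ⟨μ', -, h⟩ := hnorm k μ hμ
    have h1 := h 1
    rw [mul_one] at h1
    simp only [σ, h x, h1]
    field_simp [hc k]
  have hσmul : ∀ k x y, σ k (x * y) = σ k x * σ k y := by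
    intro k x y
    let R : Subring F :=
      { carrier := {l | ∀ z, σ k (l * z) = σ k l * σ k z}
        one_mem' := fun z => by rw [one_mul, hσ1, one_mul]
        mul_mem' := fun {a b} ha hb z => by
          rw [mul_assoc, ha, hb, ha b, mul_assoc]
        zero_mem' := fun z => by rw [zero_mul, hσ0, zero_mul]
        add_mem' := fun {a b} ha hb z => by rw [add_mul, hσadd, ha, hb, hσadd, add_mul]
        neg_mem' := fun {a} ha z => by rw [CharTwo.neg_eq]; exact ha z }
    have : (⊤ : Subring F) ≤ R := by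
      rw [← closure_normOne_eq_top hF, Subring.closure_le]
      exact fun l hl => hσμ k l hl
    exact this (Subring.mem_top x) y
  let τ : K → (F ≃+* F) := fun k =>
    RingEquiv.ofBijective
      ({ toFun := σ k, map_one' := hσ1 k, map_mul' := hσmul k, map_zero' := hσ0 k,
         map_add' := hσadd k } : F →+* F) (Finite.injective_iff_bijective.1 (RingHom.injective _))
  have hτ : ∀ k x, τ k x = σ k x := fun k x => rfl
  have hcoc : ∀ k l, φ (k * l) 1 = φ k 1 * σ k (φ l 1) := fun k l => by rw [hmul, hφ k]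
  let Φ : K →* (F ≃+* F) := MonoidHom.mk' τ fun k l => RingEquiv.ext fun x => by
    show σ (k * l) x = σ k (σ l x)
    refine mul_left_cancel₀ (hc (k * l)) ?_
    rw [← hφ, hcoc, hmul, hφ k, hφ l x, hσmul, mul_assoc]
  have hcomm : ∀ k ∈ Φ.ker, ∀ l, σ l (φ k 1) = φ k 1 := by
    intro k hk l
    have hk' : σ k (φ l 1) = φ l 1 := by
      have := DFunLike.congr_fun (MonoidHom.mem_ker.1 hk) (φ l 1)
      exact this
    have h1 := hcoc k l
    rw [mul_comm, hcoc l k, hk', mul_comm (φ k 1)] at h1
    exact mul_left_cancel₀ (hc l) h1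
  suffices hker : Φ.ker = ⊤ by
    have hk : τ k = 1 := MonoidHom.mem_ker.1 (show k ∈ Φ.ker from hker ▸ Subgroup.mem_top k)
    have h : ∀ x, σ k x = x := fun x => DFunLike.congr_fun hk x
    rw [hφ k, hφ k x, h, h]
    ring
  let E : Subfield F := FixedPoints.subfield Φ.range F
  set r := Nat.card Φ.range with hr
  have hrK : r * Nat.card Φ.ker = q - 1 := by
    rw [← hK, hr, ← Nat.card_congr (QuotientGroup.quotientKerEquivRange Φ).toEquiv,
      ← Subgroup.card_eq_card_quotient_mul_card_subgroup]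
  have hrodd : Odd r := by
    refine Odd.of_dvd_nat ?_ ⟨_, hrK.symm⟩
    rw [hqn]
    exact Nat.Even.sub_odd (Nat.one_le_two_pow) (even_two.pow_of_ne_zero (by omega)) odd_one
  haveI : FaithfulSMul Φ.range F := ⟨fun {a b} h => Subtype.ext (RingEquiv.ext h)⟩
  haveI := Fintype.ofFinite Φ.range
  have hfr : Module.finrank E F = r := by
    rw [hr, Nat.card_eq_fintype_card]; exact FixedPoints.finrank_eq_card Φ.range F
  have hEcard : Nat.card E ^ r = q ^ 2 := by
    rw [← hF, ← Nat.card_eq_fintype_card, ← hfr]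
    exact Module.natCard_eq_pow_finrank.symm
  obtain ⟨j, -, hj⟩ := (Nat.dvd_prime_pow Nat.prime_two).1
    (show Nat.card E ∣ 2 ^ (n * 2) by
      rw [pow_mul, ← hqn, ← hEcard]; exact dvd_pow_self _ (by rcases hrodd with ⟨s, hs⟩; omega))
  have hjr : j * r = 2 * n := by
    rw [hj, ← pow_mul, hqn, ← pow_mul] at hEcard
    rw [Nat.pow_right_injective le_rfl hEcard, mul_comm]
  have hrn : r ∣ n := (Nat.Coprime.dvd_of_dvd_mul_left
    (Nat.coprime_two_right.2 hrodd) ⟨j, by rw [← hjr, mul_comm]⟩)
  obtain ⟨m, hm⟩ := hrn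
  have hjm : j = 2 * m := by
    refine Nat.eq_of_mul_eq_mul_right (show 0 < r from hrodd.pos) ?_
    rw [hjr, hm]; ring
  -- the kernel embeds in the units of the fixed field
  have hkdvd : Nat.card Φ.ker ∣ Nat.card E - 1 := by
    let f : Φ.ker →* Eˣ := MonoidHom.mk' (fun k => Units.mk0 ⟨φ k 1, fun g => by
        obtain ⟨l, hl⟩ := g.2
        show g.1 (φ k 1) = φ k 1
        rw [← hl]
        exact hcomm k k.2 l⟩ (fun h => hc k (congrArg Subtype.val h))) fun k l => Units.ext (Subtype.ext (by
          show φ ((k : K) * l) 1 = φ k 1 * φ l 1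
          have h : σ k (φ (l : K) 1) = φ (l : K) 1 :=
            DFunLike.congr_fun (MonoidHom.mem_ker.1 k.2) _
          rw [hcoc, h]))
    have hf : Function.Injective f := by
      rw [injective_iff_map_eq_one]
      intro k hk
      refine Subtype.ext (hinj k fun x => ?_)
      have h : σ k x = x := DFunLike.congr_fun (MonoidHom.mem_ker.1 k.2) x
      have h1 : φ k 1 = 1 := congrArg (fun u : Eˣ => ((u : E) : F)) hk
      rw [hφ, h, h1, one_mul]
    rw [← Nat.card_units E]
    exact Subgroup.card_dvd_of_injective f hf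
  have hdvd : 2 ^ (r * m) - 1 ∣ r * (2 ^ m - 1) := by
    have h1 : 2 ^ (r * m) - 1 ∣ r * (2 ^ j - 1) := by
      rw [← hm, ← hqn, ← hrK, ← hj]; exact Nat.mul_dvd_mul_left r hkdvd
    have hg : Nat.gcd (2 ^ (r * m) - 1) (2 ^ j - 1) = 2 ^ m - 1 := by
      rw [Nat.pow_sub_one_gcd_pow_sub_one, hjm, Nat.gcd_mul_right,
        Nat.coprime_two_right.2 hrodd, one_mul]
    rw [← hg, ← Nat.gcd_mul_left]
    exact Nat.dvd_gcd (dvd_mul_left _ _) h1
  have hm0 : m ≠ 0 := fun h => by rw [h, mul_zero] at hm; omega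
  have hr1 : r = 1 := by
    by_contra hne
    have h2m : 2 ≤ 2 ^ m := Nat.le_self_pow hm0 2
    have hlt := pow_sub_one_gt h2m (show 2 ≤ r by rcases hrodd with ⟨s, hs⟩; omega)
    rw [← pow_mul, mul_comm m r] at hlt
    have := Nat.le_of_dvd (Nat.mul_pos hrodd.pos (by omega)) hdvd
    omega
  rw [hr1, one_mul, ← hK] at hrK
  exact Subgroup.eq_top_of_card_eq _ hrK

end CfsgLib.SuzukiU
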