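import Cfsg.Agent.SuzukiU.TwoTransitive
import Cfsg.Prelude.Def_LieRecognition

/-!
# The rank one set-up and the order of the group
-/

set_option autoImplicit false
set_option linter.unusedSectionVars false
set_option linter.style.haveILetI false

namespace CfsgLib.SuzukiU

open CfsgLib.SEmbed CfsgLib.Small

variable {G : Type*} [Group G] [Finite G] {Ω : Type*} [MulAction G Ω]
  {F : Type*} [Field F] [Fintype F] [CharP F 2] {q : ℕ}

/-- The group hypotheses give a frame on the cosets of a strongly embedded subgroup. -/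
theorem exists_frame (hd : CentHyp G F q) (hF : Fintype.card F = q ^ 2) (heven : Even (Nat.card G))
    (hS : ∀ P : Sylow 2 G, ¬ (P : Subgroup G).Normal) :
    ∃ M : Subgroup G, Frame G (G ⧸ M) F q := by
  obtain ⟨M, hM, hcomm⟩ := exists_stronglyEmbedded hd hF heven hS
  refine ⟨M, uniqueFix hM, nontrivial_cosets hM, hd, fun s t x hs ht => ?_⟩
  obtain ⟨g, rfl⟩ := QuotientGroup.mk_surjective x
  have h := hcomm _ ((smul_mk_eq_iff M s g).1 hs.2) _ ((smul_mk_eq_iff M t g).1 ht.2)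
    (by have := orderOf_conj_eq g⁻¹ s; rwa [inv_inv, hs.1] at this)
    (by have := orderOf_conj_eq g⁻¹ t; rwa [inv_inv, ht.1] at this)
  have h2 := h.map (MulAut.conj g).toMonoidHom
  simpa [mul_assoc] using h2

variable (Φ : Frame G Ω F q) (hF : Fintype.card F = q ^ 2) (hq : 2 < q)
include Φ hF hq

theorem Frame.two_transitive : MulAction.IsMultiplyPretransitive G Ω 2 := by
  rw [MulAction.is_two_pretransitive_iff]
  intro a b c d hab hcd
  obtain ⟨g, hg⟩ := Φ.fix.transitive a c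
  obtain ⟨k, hk, hk'⟩ := Φ.exists_map hF hq hcd (c := g • b)
    (fun h => hab (smul_left_cancel g (hg.trans h)))
  exact ⟨k * g, by rw [mul_smul, hg, hk], by rw [mul_smul, hk']⟩

/-- The point stabiliser is the Sylow 2-subgroup times the pair stabiliser, whose elements are
products of torus elements and elements centralising the involutions at the point. -/
theorem Frame.decomp {t g : G} {x y : Ω} (hxy : x ≠ y) (ht : t ∈ invMap (G := G) x x)
    (hg : g • x = x) :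
    ∃ u ∈ sylOf Φ.data hF t ht.1, ∃ d ∈ pairStab G x y, g = u * d := by
  obtain ⟨e, he, c, hc, rfl⟩ := Φ.exists_decomp hxy hg ht
  obtain ⟨d⟩ := Φ.data t ht.1
  obtain ⟨z, hz, hzc⟩ := Φ.exists_chi hF hq hxy ht d (d.chi_pow ⟨c, hc⟩)
  have hu : c * (z : G)⁻¹ ∈ sylOf Φ.data hF t ht.1 :=
    (mem_sylOf_iff Φ.data hF ht.1 d (⟨c, hc⟩ * z⁻¹)).2 (by
      rw [map_mul, map_inv, hzc, mul_inv_cancel])
  refine ⟨e * (c * (z : G)⁻¹) * e⁻¹, ⟨Φ.conj_cent (mem_pairStab.1 he).1 ht hu.1, ?_⟩,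
    e * z, mul_mem he hz, by group⟩
  rw [conj_pow, hu.2, mul_one, mul_inv_cancel]

theorem Frame.syl_inf_pair {t : G} {x y : Ω} (hxy : x ≠ y) (ht : orderOf t = 2) {u : G}
    (hu : u ∈ sylOf Φ.data hF t ht) (huy : u • y = y) (hux : u • x = x) : u = 1 := by
  obtain ⟨n, hn, hqn⟩ := exists_pow_eq hF
  refine eq_one_of_pow_coprime (pow_orderOf_eq_one u) hu.2 ?_
  rw [hqn, ← pow_mul]
  exact (Nat.coprime_two_right.2 ((odd_pairStab Φ.fix hxy).of_dvd_nat
    (Subgroup.orderOf_dvd_natCard _ (mem_pairStab.2 ⟨hux, huy⟩)))).pow_right _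

theorem Frame.setup {t w : G} {x y : Ω} (hxy : x ≠ y) (ht : t ∈ invMap (G := G) x x)
    (hw : w ∈ invMap (G := G) x y) :
    Cfsg.IsRankOneSetup G Ω x w (sylOf Φ.data hF t ht.1) := by
  have hwx : w • x = y := hw.2
  have hQle : sylOf Φ.data hF t ht.1 ≤ MulAction.stabilizer G x := fun u hu =>
    Φ.cent_le_stab ht hu.1
  refine ⟨Φ.two_transitive hF hq, mul_self_of_orderOf_two hw.1, fun h => ?_, fun h => ?_, hQle,
    fun g hg u hu => ?_, ?_, ?_, ?_, ?_⟩
  · have := hw.1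
    rw [h, orderOf_one] at this
    norm_num at this
  · exact hxy (h.symm.trans hwx)
  · exact ⟨Φ.conj_cent hg ht hu.1, by rw [conj_pow, hu.2, mul_one, mul_inv_cancel]⟩
  · refine eq_bot_iff.2 fun u hu => Subgroup.mem_bot.2 ?_
    have h2 : u • y = y := by rw [← hwx]; exact hu.2
    exact Φ.syl_inf_pair hF hq hxy ht.1 hu.1 h2 (hQle hu.1)
  · refine le_antisymm (sup_le hQle inf_le_left) fun g hg => ?_
    obtain ⟨u, hu, d, hd, rfl⟩ := Φ.decomp hF hq hxy ht hg
    refine Subgroup.mul_mem_sup hu ⟨(mem_pairStab.1 hd).1, ?_⟩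
    show d • w • x = w • x
    rw [hwx]
    exact (mem_pairStab.1 hd).2
  · rw [card_sylOf]
    exact (even_q hF).1.pow_of_ne_zero (by norm_num)
  · rw [hwx]
    exact odd_pairStab Φ.fix hxy

theorem Frame.card_pair_eq {x y : Ω} (hxy : x ≠ y) :
    Nat.card (pairStab G x y) = q ^ 2 - 1 := by
  obtain ⟨t, ht⟩ := Φ.fix.exists_inv x
  obtain ⟨d⟩ := Φ.data t ht.1
  set S := pairStab G x y ⊓ Subgroup.centralizer ({t} : Set G)
  let f : S → AutPSU.normOne F q := fun s => ⟨d.chi ⟨s, s.2.2⟩, d.chi_pow _⟩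
  have hf : Function.Bijective f := by
    refine ⟨fun s s' h => ?_, fun μ => ?_⟩
    · have h1 : d.chi (⟨s, s.2.2⟩⁻¹ * ⟨s', s'.2.2⟩) = 1 := by
        rw [map_mul, map_inv, inv_mul_eq_one]; exact congrArg Subtype.val h
      refine Subtype.ext (inv_mul_eq_one.1 (Φ.syl_inf_pair hF hq hxy ht.1
        ((mem_sylOf_iff Φ.data hF ht.1 d _).2 h1) ?_ ?_))
      · exact (mem_pairStab.1 (mul_mem (inv_mem s.2.1) s'.2.1)).2
      · exact (mem_pairStab.1 (mul_mem (inv_mem s.2.1) s'.2.1)).1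
    · obtain ⟨z, hz, hzc⟩ := Φ.exists_chi hF hq hxy ht d (μ := μ.1) μ.2
      exact ⟨⟨z, hz, z.2⟩, Subtype.ext hzc⟩
  rw [Φ.card_pair hF hxy ht, Nat.card_eq_of_bijective f hf, AutPSU.card_normOne hF]
  obtain ⟨k, rfl⟩ : ∃ k, q = k + 1 := ⟨q - 1, by omega⟩
  rw [Nat.add_sub_cancel]
  symm
  rw [Nat.sub_eq_iff_eq_add (Nat.one_le_pow _ _ (by omega))]
  ring

theorem Frame.card_points : Nat.card Ω = q ^ 3 + 1 := by
  classical
  haveI := finite_points Φ.fix
  haveI := Φ.nontriv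
  obtain ⟨x, y, hxy⟩ := exists_pair_ne Ω
  set S := MulAction.stabilizer G x
  have horb : MulAction.orbit S y = {x}ᶜ := by
    ext c
    refine ⟨?_, fun hc => ?_⟩
    · rintro ⟨g, rfl⟩ (h : (g : G) • y = x)
      exact hxy (smul_left_cancel (g : G) ((show (g : G) • x = x from g.2).trans h.symm))
    · obtain ⟨g, hg, hgc⟩ := Φ.exists_map hF hq hxy (Ne.symm hc)
      exact ⟨⟨g⁻¹, inv_smul_eq_iff.2 hg.symm⟩, inv_smul_eq_iff.2 hgc.symm⟩
  have hst : Nat.card (MulAction.stabilizer S y) = Nat.card (pairStab G x y) :=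
    Nat.card_congr
      { toFun := fun g => ⟨g.1.1, mem_pairStab.2 ⟨g.1.2, g.2⟩⟩
        invFun := fun g => ⟨⟨g.1, (mem_pairStab.1 g.2).1⟩, (mem_pairStab.1 g.2).2⟩
        left_inv := fun _ => rfl
        right_inv := fun _ => rfl }
  haveI := Fintype.ofFinite Ω
  haveI := Fintype.ofFinite (MulAction.orbit S y)
  haveI := Fintype.ofFinite S
  haveI := Fintype.ofFinite (MulAction.stabilizer S y)
  have h := MulAction.card_orbit_mul_card_stabilizer_eq_card_group S y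
  rw [← Nat.card_eq_fintype_card, ← Nat.card_eq_fintype_card, ← Nat.card_eq_fintype_card, hst,
    Φ.card_pair_eq hF hq hxy, Φ.card_stab hF x, Nat.card_coe_set_eq, horb, Set.ncard_compl,
    Set.ncard_singleton] at h
  have h1 : Nat.card Ω - 1 = q ^ 3 := by
    refine Nat.eq_of_mul_eq_mul_right (show 0 < q ^ 2 - 1 from ?_) (h.trans ?_)
    · have : 2 * 2 ≤ q ^ 2 := by rw [sq]; exact Nat.mul_le_mul hq.le hq.le
      omega
    · obtain ⟨k, rfl⟩ : ∃ k, q = k + 1 := ⟨q - 1, by omega⟩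
      rw [Nat.add_sub_cancel]
      zify [Nat.one_le_pow 2 (k + 1) (by omega)]
      ring
  have := Nat.card_pos (α := Ω)
  omega

theorem Frame.card_group : Nat.card G = (q ^ 3 + 1) * q ^ 3 * (q ^ 2 - 1) := by
  haveI := finite_points Φ.fix
  haveI := Φ.nontriv
  obtain ⟨x⟩ := (inferInstance : Nonempty Ω)
  haveI : MulAction.IsPretransitive G Ω := ⟨Φ.fix.transitive⟩
  haveI := Fintype.ofFinite Ω
  have h := Subgroup.index_mul_card (MulAction.stabilizer G x)
  rw [MulAction.index_stabilizer_of_transitive, Φ.card_points hF hq, Φ.card_stab hF x] at h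
  rw [← h]
  obtain ⟨k, rfl⟩ : ∃ k, q = k + 1 := ⟨q - 1, by omega⟩
  rw [Nat.add_sub_cancel]
  zify [Nat.one_le_pow 2 (k + 1) (by omega)]
  ring

/-- An element centralising all Sylow 2-subgroups is trivial. -/
theorem Frame.eq_one_of_centralises {g : G}
    (hg : ∀ t (ht : orderOf t = 2), ∀ u ∈ sylOf Φ.data hF t ht, g * u = u * g) : g = 1 := by
  haveI := Φ.nontriv
  by_contra hne
  obtain ⟨x, y, hxy⟩ := exists_pair_ne Ω
  obtain ⟨t, ht⟩ := Φ.fix.exists_inv x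
  obtain ⟨d⟩ := Φ.data t ht.1
  have htg : g ∈ Subgroup.centralizer ({t} : Set G) := Subgroup.mem_centralizer_singleton_iff.2
    (hg t ht.1 t (invol_mem_sylOf Φ.data hF ht.1 ht.1 (Commute.refl t)))
  have h1 : d.chi ⟨g, htg⟩ = 1 := d.chi_eq_one_of_commute fun u hu =>
    Subtype.ext (hg t ht.1 u ((mem_sylOf_iff Φ.data hF ht.1 d u).2 hu))
  obtain ⟨s, hs⟩ := Φ.fix.exists_inv y
  have hgs : g ∈ Subgroup.centralizer ({s} : Set G) := Subgroup.mem_centralizer_singleton_iff.2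
    (hg s hs.1 s (invol_mem_sylOf Φ.data hF hs.1 hs.1 (Commute.refl s)))
  exact hne (Φ.syl_inf_pair hF hq hxy ht.1 ((mem_sylOf_iff Φ.data hF ht.1 d ⟨g, htg⟩).2 h1)
    (Φ.cent_le_stab hs hgs) (Φ.cent_le_stab ht htg))

theorem Frame.faithful : FaithfulSMul G Ω := by
  refine ⟨fun {g g'} h => inv_mul_eq_one.1 ?_ |>.symm⟩
  have hk : ∀ z : Ω, (g'⁻¹ * g) • z = z := fun z => by rw [mul_smul, h z, inv_smul_smul]
  haveI := Φ.nontriv
  refine Φ.eq_one_of_centralises hF hq fun t ht u hu => ?_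
  obtain ⟨x, hx⟩ := Φ.fix.exists_fix t ht
  obtain ⟨y, hy⟩ := exists_ne x
  set n := g'⁻¹ * g
  have hc : n * u * n⁻¹ * u⁻¹ = 1 := by
    have hm : n * u * n⁻¹ * u⁻¹ ∈ sylOf Φ.data hF t ht :=
      mul_mem (show n * u * n⁻¹ ∈ sylOf Φ.data hF t ht from
        ⟨Φ.conj_cent (hk x) ⟨ht, hx⟩ hu.1, by rw [conj_pow, hu.2, mul_one, mul_inv_cancel]⟩)
        (inv_mem hu)
    have hn : ∀ z : Ω, n⁻¹ • z = z := fun z => inv_smul_eq_iff.2 (hk z).symm
    refine Φ.syl_inf_pair hF hq hy.symm ht hm ?_ ?_ <;>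
      rw [mul_smul, mul_smul, mul_smul, hn, smul_inv_smul, hk]
  exact mul_inv_eq_iff_eq_mul.1 (mul_inv_eq_one.1 hc)

theorem Frame.exists_commuting :
    ∃ s t : G, s ≠ 1 ∧ t ≠ 1 ∧ s ≠ t ∧ s * s = 1 ∧ t * t = 1 ∧ s * t = t * s := by
  haveI := Φ.nontriv
  obtain ⟨x⟩ := (inferInstance : Nonempty Ω)
  have h : 1 < Nat.card (invMap (G := G) x x) := by rw [Φ.card_invMap_fix hF x]; omega
  haveI := Finite.one_lt_card_iff_nontrivial.1 h
  obtain ⟨⟨s, hs⟩, ⟨t, ht⟩, hne⟩ := exists_pair_ne (invMap (G := G) x x)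
  refine ⟨s, t, ?_, ?_, fun h => hne (Subtype.ext h), mul_self_of_orderOf_two hs.1,
    mul_self_of_orderOf_two ht.1, (Φ.comm s t x hs ht).eq⟩
  · rintro rfl
    simpa using hs.1
  · rintro rfl
    simpa using ht.1

end CfsgLib.SuzukiU
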