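import Cfsg.Agent.SuzukiU.Pair
import Cfsg.Agent.SuzukiU.Semilinear
import Cfsg.Agent.Coprime.SchurZassenhaus

/-!
# The torus of order `q - 1` fixes two points; double transitivity
-/

set_option autoImplicit false
set_option linter.unusedSectionVars false
set_option linter.style.haveILetI false

open Pointwise

namespace CfsgLib.SuzukiU

open CfsgLib.SEmbed CfsgLib.Small

variable {G : Type*} [Group G] [Finite G] {Ω : Type*} [MulAction G Ω]
  {F : Type*} [Field F] [Fintype F] [CharP F 2] {q : ℕ}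
  (Φ : Frame G Ω F q) (hF : Fintype.card F = q ^ 2) (hq : 2 < q)
include Φ hF hq

theorem Frame.not_commute_invol {k i : G} (hk : k ^ (q - 1) = 1) (hk1 : k ≠ 1)
    (hi : orderOf i = 2) : ¬ Commute k i := by
  intro hc
  obtain ⟨d⟩ := Φ.data i hi
  have hkc : k ∈ Subgroup.centralizer ({i} : Set G) := Subgroup.mem_centralizer_singleton_iff.2 hc.eq
  have h := pow_card_eq_one' (x := (⟨k, hkc⟩ : ↥(Subgroup.centralizer ({i} : Set G))))
  rw [d.card hF, mul_comm] at h
  exact hk1 (eq_one_of_pow_coprime hk (congrArg Subtype.val h) (coprime_sub_card hF))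

/-- The torus of order `q - 1` of a pair fixes no third point. -/
theorem Frame.fix_torus {x y : Ω} (hxy : x ≠ y) {K : Subgroup G} (hK : K ≤ pairStab G x y)
    (hKc : Nat.card K = q - 1) {c : Ω} (hc : ∀ k ∈ K, k • c = c) : c = x ∨ c = y := by
  classical
  by_contra hne
  simp only [not_or] at hne
  haveI : Nontrivial K := Finite.one_lt_card_iff_nontrivial.1 (by omega)
  obtain ⟨⟨k₀, hk₀⟩, hk₀1⟩ := exists_ne (1 : K)
  have hk₀1' : k₀ ≠ 1 := fun h => hk₀1 (Subtype.ext h)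
  have hKpow : ∀ k ∈ K, k ^ (q - 1) = 1 := fun k hk => by
    rw [← hKc]; exact congrArg Subtype.val (pow_card_eq_one' (x := (⟨k, hk⟩ : K)))
  -- swappers of two fixed points invert `K`
  have hswap : ∀ u v : Ω, u ≠ v → (∀ k ∈ K, k • u = u) → (∀ k ∈ K, k • v = v) →
      ∃ w, w ∈ invMap (G := G) u v ∧ ∀ k ∈ K, w * k * w⁻¹ = k⁻¹ := by
    intro u v huv hu hv
    obtain ⟨T, -, hTc, hmem, hinv⟩ := Φ.exists_torus hF huv
    obtain ⟨w, hw⟩ := Φ.exists_swap huv
    exact ⟨w, hw, fun k hk =>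
      hinv w hw k (hmem k (mem_pairStab.2 ⟨hu k hk, hv k hk⟩) (hKpow k hk))⟩
  set CK := Subgroup.centralizer (K : Set G)
  have hodd : Odd (Nat.card CK) := by
    by_contra h
    obtain ⟨i, hi, hio⟩ := exists_invol_mem (Nat.not_odd_iff_even.1 h)
    exact Φ.not_commute_invol hF hq (hKpow k₀ hk₀) hk₀1' hio
      (Subgroup.mem_centralizer_iff.1 hi k₀ hk₀)
  have hxK : ∀ k ∈ K, k • x = x := fun k hk => (mem_pairStab.1 (hK hk)).1
  have hyK : ∀ k ∈ K, k • y = y := fun k hk => (mem_pairStab.1 (hK hk)).2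
  set O := MulAction.orbit CK x
  have hOfix : ∀ z ∈ O, ∀ k ∈ K, k • z = z := by
    rintro _ ⟨g, rfl⟩ k hk
    show k • (g : G) • x = (g : G) • x
    rw [smul_smul, Subgroup.mem_centralizer_iff.1 g.2 k hk, mul_smul, hxK k hk]
  haveI := finite_points Φ.fix
  haveI : Fintype O := Fintype.ofFinite O
  have hOodd : ¬ 2 ∣ Fintype.card O := by
    rw [← Nat.card_eq_fintype_card, Nat.card_congr (MulAction.orbitEquivQuotientStabilizer CK x),
      ← even_iff_two_dvd, Nat.not_even_iff_odd]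
    exact hodd.of_dvd_nat (Subgroup.card_quotient_dvd_card _)
  -- an inverting involution maps the orbit of `x` off itself
  have hoff : ∀ w : G, orderOf w = 2 → (∀ k ∈ K, w * k * w⁻¹ = k⁻¹) → w • x ∉ O := by
    intro w hw hinv hmem
    have hwC : ∀ g ∈ CK, w * g * w⁻¹ ∈ CK := by
      intro g hg
      refine Subgroup.mem_centralizer_iff.2 fun k hk => ?_
      have h1 := Subgroup.mem_centralizer_iff.1 hg k⁻¹ (inv_mem hk)
      have h2 : w * k⁻¹ * w⁻¹ = k := by rw [hinv _ (inv_mem hk), inv_inv]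
      calc k * (w * g * w⁻¹) = (w * k⁻¹ * w⁻¹) * (w * g * w⁻¹) := by rw [h2]
        _ = w * (k⁻¹ * g) * w⁻¹ := by group
        _ = w * (g * k⁻¹) * w⁻¹ := by rw [h1]
        _ = w * g * w⁻¹ * (w * k⁻¹ * w⁻¹) := by group
        _ = _ := by rw [h2]
    have hwO : ∀ z ∈ O, w • z ∈ O := by
      rintro _ ⟨g, rfl⟩
      obtain ⟨g', hg'⟩ := hmem
      refine ⟨⟨w * g * w⁻¹, hwC _ g.2⟩ * g', ?_⟩
      show ((w * g * w⁻¹) * (g' : G)) • x = w • (g : G) • x
      rw [mul_smul, show (g' : G) • x = w • x from hg', smul_smul, smul_smul, inv_mul_cancel_right]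
    let σ : Equiv.Perm O := Function.Involutive.toPerm (fun z => ⟨w • z.1, hwO _ z.2⟩) fun z =>
      Subtype.ext (smul_back hw rfl)
    haveI : Fact (Nat.Prime 2) := ⟨Nat.prime_two⟩
    obtain ⟨⟨z, hzO⟩, hz⟩ := Equiv.Perm.exists_fixed_point_of_prime (n := 1) hOodd (σ := σ)
      (Equiv.ext fun z => by
        simp only [pow_one, sq, Equiv.Perm.mul_apply, Equiv.Perm.one_apply, σ]
        exact Subtype.ext (smul_back hw rfl))
    have hwz : w • z = z := congrArg Subtype.val hz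
    have hwz' : (k₀ * w * k₀⁻¹) • z = z := by
      rw [mul_smul, mul_smul, inv_smul_eq_iff.2 (hOfix z hzO k₀ hk₀).symm, hwz, hOfix z hzO k₀ hk₀]
    have hc := Φ.comm _ w z ⟨by rw [orderOf_conj_eq]; exact hw, hwz'⟩ ⟨hw, hwz⟩
    have hk2 : k₀ * w * k₀⁻¹ = k₀ * k₀ * w := by
      have hi := hinv k₀⁻¹ (inv_mem hk₀)
      rw [inv_inv, mul_inv_eq_iff_eq_mul] at hi
      rw [mul_assoc, hi, mul_assoc]
    rw [hk2] at hc
    have hc2 : Commute (k₀ * k₀) w := by
      have h3 := hc.eq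
      rw [mul_assoc, mul_self_of_orderOf_two hw, mul_one] at h3
      show k₀ * k₀ * w = w * (k₀ * k₀)
      conv_rhs => rw [h3, ← mul_assoc, ← mul_assoc, ← mul_assoc, mul_self_of_orderOf_two hw, one_mul]
    refine Φ.not_commute_invol hF hq (by rw [(Commute.refl k₀).mul_pow, hKpow k₀ hk₀, one_mul])
      (fun h => hk₀1' ?_) hw hc2
    refine eq_one_of_pow_coprime (hKpow k₀ hk₀) (b := 2) (by rw [sq, h]) ?_
    rw [Nat.coprime_two_right]
    exact Nat.Even.sub_odd (by omega) (even_q hF).1 odd_one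
  obtain ⟨w₁, hw₁, hi₁⟩ := hswap x y hxy hxK hyK
  obtain ⟨w₂, hw₂, hi₂⟩ := hswap x c (Ne.symm hne.1) hxK hc
  obtain ⟨w₃, hw₃, hi₃⟩ := hswap y c (Ne.symm hne.2) hyK hc
  refine hoff w₂ hw₂.1 hi₂ ?_
  rw [hw₂.2]
  have hmem : w₃ * w₁ ∈ CK := by
    refine Subgroup.mem_centralizer_iff.2 fun k hk => ?_
    have h : w₃ * w₁ * k * (w₃ * w₁)⁻¹ = k := by
      calc w₃ * w₁ * k * (w₃ * w₁)⁻¹ = w₃ * (w₁ * k * w₁⁻¹) * w₃⁻¹ := by group
        _ = k := by rw [hi₁ k hk, hi₃ _ (inv_mem hk), inv_inv]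
    exact (mul_inv_eq_iff_eq_mul.1 h).symm
  exact ⟨⟨w₃ * w₁, hmem⟩, by show (w₃ * w₁) • x = c; rw [mul_smul, hw₁.2, hw₃.2]⟩

omit hF hq in
theorem solvable_cent {t : G} (ht : orderOf t = 2) (hF : Fintype.card F = q ^ 2) :
    Group.IsSolvable ↥(Subgroup.centralizer ({t} : Set G)) := by
  obtain ⟨d⟩ := Φ.data t ht
  haveI : Fact (Nat.Prime 2) := ⟨Nat.prime_two⟩
  obtain ⟨n, hn, hqn⟩ := exists_pow_eq hF
  haveI : Group.IsNilpotent d.chi.ker :=
    (IsPGroup.of_card (p := 2) (n := n * 3) (by rw [d.card_ker, hqn, pow_mul])).isNilpotent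
  haveI : Group.IsSolvable d.chi.ker := inferInstance
  exact Group.isSolvable_of_ker_le_range d.chi.ker.subtype d.chi (by rw [Subgroup.range_subtype])

/-- The point stabiliser is transitive on the other points. -/
theorem Frame.exists_map {x y c : Ω} (hxy : x ≠ y) (hxc : x ≠ c) :
    ∃ g : G, g • x = x ∧ g • c = y := by
  obtain ⟨t, ht⟩ := Φ.fix.exists_inv x
  obtain ⟨d⟩ := Φ.data t ht.1
  obtain ⟨K, hK, hKc, -, -⟩ := Φ.exists_torus hF hxy
  obtain ⟨T, hT, hTc, -, -⟩ := Φ.exists_torus hF hxc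
  set N := Subgroup.centralizer ({t} : Set G)
  have hnorm : ∀ g : G, g • x = x → g ∈ Subgroup.normalizer (N : Set G) := fun g hg =>
    Subgroup.mem_normalizer_fintype fun n hn => Φ.conj_cent hg ht hn
  have hcop : (Nat.card N).Coprime (Nat.card T) := by
    rw [d.card hF, hTc, mul_comm]; exact (coprime_sub_card hF).symm
  -- both `N T` and `N K` are the stabiliser of `x`
  have hsup : ∀ (z : Ω) (S : Subgroup G), x ≠ z → S ≤ pairStab G x z → Nat.card S = q - 1 →
      N ⊔ S = MulAction.stabilizer G x := by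
    intro z S hz hS hSc
    have hle : N ⊔ S ≤ MulAction.stabilizer G x :=
      sup_le (Φ.cent_le_stab ht) fun g hg => (mem_pairStab.1 (hS hg)).1
    refine Subgroup.eq_of_le_of_card_ge hle ?_
    refine Nat.le_of_dvd Nat.card_pos ?_
    rw [Φ.card_stab hF x, mul_comm]
    refine Nat.Coprime.mul_dvd_of_dvd_of_dvd ?_ ?_ ?_
    · rw [mul_comm (q ^ 3)]; exact (coprime_sub_card hF).symm
    · rw [← d.card hF]; exact Subgroup.card_dvd_of_le le_sup_left
    · rw [← hSc]; exact Subgroup.card_dvd_of_le le_sup_right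
  obtain ⟨n, hn, hconj⟩ := Coprime.exists_conj_eq_of_sup_eq
    (fun g hg => hnorm g (mem_pairStab.1 (hT hg)).1)
    (fun g hg => hnorm g (mem_pairStab.1 (hK hg)).1) hcop (hKc.trans hTc.symm)
    ((hsup c T hxc hT hTc).trans (hsup y K hxy hK hKc).symm)
    (Or.inl (solvable_cent Φ ht.1 hF))
  have hnx : n • x = x := Φ.cent_le_stab ht hn
  refine ⟨n, hnx, ?_⟩
  refine (Φ.fix_torus hF hq hxy hK hKc (c := n • c) fun k hk => ?_).resolve_left
    fun h => hxc (smul_left_cancel n (hnx.trans h.symm))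
  rw [← hconj] at hk
  obtain ⟨j, hj, rfl⟩ := hk
  show (n * j * n⁻¹) • n • c = n • c
  rw [smul_smul, inv_mul_cancel_right, mul_smul, (mem_pairStab.1 (hT hj)).2]

/-- `C_D(t)` maps onto the norm one elements. -/
theorem Frame.exists_chi {t : G} {x y : Ω} (hxy : x ≠ y) (ht : t ∈ invMap (G := G) x x)
    (d : CentData ↥(Subgroup.centralizer ({t} : Set G)) F q) {μ : Fˣ} (hμ : μ ^ (q + 1) = 1) :
    ∃ z : ↥(Subgroup.centralizer ({t} : Set G)), (z : G) ∈ pairStab G x y ∧ d.chi z = μ := by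
  classical
  obtain ⟨K, hK, hKc, -, -⟩ := Φ.exists_torus hF hxy
  set Q := sylOf Φ.data hF t ht.1 with hQ
  let cj : K → (Subgroup.centralizer ({t} : Set G)) → (Subgroup.centralizer ({t} : Set G)) := fun k c =>
    ⟨(k : G) * c * (k : G)⁻¹, Φ.conj_cent (mem_pairStab.1 (hK k.2)).1 ht c.2⟩
  have hcjmul : ∀ k a b, cj k (a * b) = cj k a * cj k b := fun k a b => Subtype.ext (by
    show (k : G) * (↑(a * b)) * (k : G)⁻¹ = _
    simp only [cj, Subgroup.coe_mul]; group)
  have hcj2 : ∀ k l a, cj (k * l) a = cj k (cj l a) := fun k l a => Subtype.ext (by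
    simp only [cj, Subgroup.coe_mul]; group)
  have hcjchi : ∀ k a, d.chi a = 1 → d.chi (cj k a) = 1 := fun k a ha =>
    d.chi_eq_one_of_pow hF (Subtype.ext (by
      simp only [cj, SubmonoidClass.coe_pow, conj_pow]
      rw [show (a : G) ^ q ^ 3 = 1 from congrArg Subtype.val (d.pow_card_ker ha)]
      simp))
  choose pre hpre hpre' using d.pi_surj
  -- the induced action on `Q / Ω₁(Q)`
  let φ : K → F → F := fun k f => d.pi (cj k (pre f))
  have hwd : ∀ k a, d.chi a = 1 → d.pi (cj k a) = φ k (d.pi a) := by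
    intro k a ha
    set b := pre (d.pi a) with hb
    have hab : d.chi (b⁻¹ * a) = 1 := by rw [map_mul, map_inv, hpre, ha, inv_one, one_mul]
    have hz : d.pi (b⁻¹ * a) = 0 := by
      have := d.pi_mul b (b⁻¹ * a) (hpre _) hab
      rw [mul_inv_cancel_left, hpre'] at this
      simpa using this
    have hz2 : cj k (b⁻¹ * a) * cj k (b⁻¹ * a) = 1 := by
      rw [← hcjmul, (d.pi_eq_zero _ hab).1 hz]
      exact Subtype.ext (by simp [cj])
    have h := d.pi_mul (cj k b) (cj k (b⁻¹ * a)) (hcjchi k b (hpre _)) (hcjchi k _ hab)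
    rw [← hcjmul, mul_inv_cancel_left, (d.pi_eq_zero _ (hcjchi k _ hab)).2 hz2, add_zero] at h
    exact h
  obtain ⟨T, -, hTc, hmemT, -⟩ := Φ.exists_torus hF hxy
  letI : CommGroup K :=
    { (inferInstance : Group K) with
      mul_comm := fun u v => Subtype.ext (Φ.pair_comm hF hxy (hK u.2) (hK v.2)) }
  have hKpow : ∀ k : K, (k : G) ^ (q - 1) = 1 := fun k => by
    rw [← hKc]; exact congrArg Subtype.val (pow_card_eq_one' (x := k))
  have hcomm : ∀ (k : K) (μ : F), μ ^ (q + 1) = 1 → ∀ f, φ k (μ * f) = μ * φ k f := by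
    intro k μ hμ f
    refine normalising_commutes hF hq hKc φ ?_ ?_ ?_ ?_ ?_ k μ hμ f
    · intro f
      show d.pi (cj 1 (pre f)) = f
      rw [show cj 1 (pre f) = pre f from Subtype.ext (by simp [cj]), hpre']
    · intro k l f
      show d.pi (cj (k * l) (pre f)) = _
      rw [hcj2, hwd k _ (hcjchi l _ (hpre f))]
    · intro k f g
      have h1 : φ k (f + g) = d.pi (cj k (pre f * pre g)) := by
        rw [hwd k _ (by rw [map_mul, hpre, hpre, one_mul]), d.pi_mul _ _ (hpre f) (hpre g),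
          hpre', hpre']
      rw [h1, hcjmul, d.pi_mul _ _ (hcjchi k _ (hpre f)) (hcjchi k _ (hpre g))]
    · intro k hk
      by_contra hk1
      obtain ⟨a, ha, ha1⟩ := d.pi_surj 1
      have hb1 : d.chi (cj k a) = 1 := hcjchi k a ha
      have hz : d.chi (a⁻¹ * cj k a) = 1 := by rw [map_mul, map_inv, ha, hb1, inv_one, one_mul]
      have hz0 : d.pi (a⁻¹ * cj k a) = 0 := by
        have := d.pi_mul a (a⁻¹ * cj k a) ha hz
        rw [mul_inv_cancel_left, hwd k a ha, hk] at this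
        simpa using this
      have hzz := (d.pi_eq_zero _ hz).1 hz0
      have hsq : cj k (a * a) = a * a := by
        have hcz := d.central _ hzz a
        rw [hcjmul]
        calc cj k a * cj k a = a * ((a⁻¹ * cj k a) * a) * (a⁻¹ * cj k a) := by group
          _ = a * (a * (a⁻¹ * cj k a)) * (a⁻¹ * cj k a) := by rw [hcz]
          _ = a * a * ((a⁻¹ * cj k a) * (a⁻¹ * cj k a)) := by group
          _ = a * a := by rw [hzz, mul_one]
      have haa : a * a ≠ 1 := fun h => by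
        have := (d.pi_eq_zero a ha).2 h
        rw [ha1] at this
        exact one_ne_zero this
      have haac : d.chi (a * a) = 1 := by rw [map_mul, ha, one_mul]
      have haa2 : (a * a) * (a * a) = 1 := (d.pi_eq_zero _ haac).1 (by
        rw [d.pi_mul a a ha ha, CharTwo.add_self_eq_zero])
      refine Φ.not_commute_invol hF hq (hKpow k) (fun h => hk1 (Subtype.ext h))
        (i := ((a * a : (Subgroup.centralizer ({t} : Set G))) : G)) (orderOf_eq_prime
          (by rw [sq]; exact congrArg Subtype.val haa2) (fun h => haa (Subtype.ext h))) ?_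
      exact mul_inv_eq_iff_eq_mul.1 (congrArg Subtype.val hsq)
    · intro k μ' hμ'
      have hμ0 : μ' ≠ 0 := fun h => by rw [h, zero_pow (by omega)] at hμ'; exact zero_ne_one hμ'
      obtain ⟨c, hc⟩ := d.chi_surj (Units.mk0 μ' hμ0) (Units.ext (by
        rw [Units.val_pow_eq_pow_val, Units.val_mk0, hμ', Units.val_one]))
      refine ⟨d.chi (cj k c), by rw [← Units.val_pow_eq_pow_val, d.chi_pow, Units.val_one],
        fun f => ?_⟩
      have h1 : d.pi (c * pre f * c⁻¹) = μ' * f := by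
        rw [d.pi_conj c _ (hpre f), hc, hpre', Units.val_mk0]
      rw [← h1, ← hwd k _ (by rw [map_mul, map_mul, hpre, map_inv, mul_one, mul_inv_cancel]),
        hcjmul, hcjmul, show cj k c⁻¹ = (cj k c)⁻¹ from Subtype.ext (by simp [cj, mul_assoc]),
        d.pi_conj _ _ (hcjchi k _ (hpre f))]
  -- so `c` normalises `Q K` and a conjugate in `Q` of it normalises `K`
  obtain ⟨c, hc⟩ := d.chi_surj μ hμ
  have hcx : (c : G) • x = x := Φ.cent_le_stab ht c.2
  have hkey : ∀ k : K, (c : G) * k * (c : G)⁻¹ * (k : G)⁻¹ ∈ Q := by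
    intro k
    have h : d.chi (cj k c⁻¹) = d.chi c⁻¹ := by
      obtain ⟨a, ha, ha1⟩ := d.pi_surj 1
      have h2 : φ k ((d.chi c⁻¹ : Fˣ) * 1) = (d.chi c⁻¹ : Fˣ) * φ k 1 :=
        hcomm k _ (by rw [← Units.val_pow_eq_pow_val, d.chi_pow, Units.val_one]) 1
      rw [← ha1, ← d.pi_conj c⁻¹ a ha, ← hwd k _ (by simp [ha]), ← hwd k a ha, hcjmul, hcjmul,
        show cj k c⁻¹⁻¹ = (cj k c⁻¹)⁻¹ from Subtype.ext (by simp [cj, mul_assoc]),
        d.pi_conj _ _ (hcjchi k a ha)] at h2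
      have hne : d.pi (cj k a) ≠ 0 := fun h0 => by
        have h3 := (d.pi_eq_zero _ (hcjchi k a ha)).1 h0
        have h4 : a * a = 1 := Subtype.ext (by
          have := congrArg Subtype.val h3
          simp only [cj, Subgroup.coe_mul, OneMemClass.coe_one] at this ⊢
          have h5 : (k : G) * ((a : G) * a) * (k : G)⁻¹ = 1 := by rw [← this]; group
          rwa [mul_inv_eq_one, mul_eq_left] at h5)
        rw [(d.pi_eq_zero a ha).2 h4] at ha1
        exact zero_ne_one ha1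
      exact Units.ext (mul_right_cancel₀ hne h2)
    refine (mem_sylOf_iff Φ.data hF ht.1 d
      ⟨_, (show (c : G) * k * (c : G)⁻¹ * (k : G)⁻¹ ∈ (Subgroup.centralizer ({t} : Set G)) from by
        rw [show (c : G) * k * (c : G)⁻¹ * (k : G)⁻¹ = c * (cj k c⁻¹ : G) by
          simp [cj, mul_assoc]]
        exact mul_mem c.2 (cj k c⁻¹).2)⟩).2 ?_
    calc d.chi _ = d.chi (c * cj k c⁻¹) := congrArg d.chi (Subtype.ext (by simp [cj, mul_assoc]))
      _ = 1 := by rw [map_mul, h, map_inv, mul_inv_cancel]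
  have hQn : ∀ g : G, g • x = x → g ∈ Subgroup.normalizer (Q : Set G) := fun g hg =>
    Subgroup.mem_normalizer_fintype fun n hn =>
      ⟨Φ.conj_cent hg ht hn.1, by rw [conj_pow, hn.2, mul_one, mul_inv_cancel]⟩
  set S : Subgroup G := MulAut.conj (c : G) • K with hS
  have hSc : Nat.card S = Nat.card K :=
    (Nat.card_congr (K.equivSMul (MulAut.conj (c : G))).toEquiv).symm
  have hsup : Q ⊔ K = Q ⊔ S := by
    refine le_antisymm (sup_le le_sup_left fun k hk => ?_) (sup_le le_sup_left ?_)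
    · rw [show k = ((c : G) * k * (c : G)⁻¹ * k⁻¹)⁻¹ * ((c : G) * k * (c : G)⁻¹) by group]
      exact Subgroup.mul_mem_sup (inv_mem (hkey ⟨k, hk⟩))
        (Subgroup.smul_mem_pointwise_smul k (MulAut.conj (c : G)) K hk)
    · rintro _ ⟨k, hk, rfl⟩
      show (c : G) * k * (c : G)⁻¹ ∈ _
      rw [show (c : G) * k * (c : G)⁻¹ = ((c : G) * k * (c : G)⁻¹ * k⁻¹) * k by group]
      exact Subgroup.mul_mem_sup (hkey ⟨k, hk⟩) hk
  have hcop : (Nat.card Q).Coprime (Nat.card K) := by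
    rw [card_sylOf, hKc]
    exact (coprime_sub_card hF).symm.coprime_dvd_left (dvd_mul_left _ _)
  haveI : Fact (Nat.Prime 2) := ⟨Nat.prime_two⟩
  haveI := (isPGroup_sylOf Φ.data hF ht.1).isNilpotent
  obtain ⟨n, hn, hconj⟩ := Coprime.exists_conj_eq_of_sup_eq
    (fun g hg => hQn g (mem_pairStab.1 (hK hg)).1)
    (by rintro _ ⟨k, hk, rfl⟩
        refine hQn _ ?_
        show ((c : G) * k * (c : G)⁻¹) • x = x
        rw [mul_smul, mul_smul, inv_smul_eq_iff.2 hcx.symm, (mem_pairStab.1 (hK hk)).1, hcx])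
    hcop hSc hsup (Or.inl inferInstance)
  have hnN : n ∈ (Subgroup.centralizer ({t} : Set G)) := hn.1
  have hχn : d.chi ⟨n, hnN⟩ = 1 := d.chi_eq_one_of_pow hF (Subtype.ext hn.2)
  -- `z = n⁻¹ c` normalises `K`, so fixes `y`
  refine ⟨(⟨n, hnN⟩ : (Subgroup.centralizer ({t} : Set G)))⁻¹ * c, mem_pairStab.2 ⟨Φ.cent_le_stab ht
    ((⟨n, hnN⟩ : (Subgroup.centralizer ({t} : Set G)))⁻¹ * c).2, ?_⟩, by
      rw [map_mul, map_inv, hχn, inv_one, one_mul, hc]⟩
  show (n⁻¹ * (c : G)) • y = y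
  have hzx : (n⁻¹ * (c : G)) • x = x := by
    rw [mul_smul, hcx]; exact inv_smul_eq_iff.2 (Φ.cent_le_stab ht hn.1).symm
  refine (Φ.fix_torus hF hq hxy hK hKc fun k hk => ?_).resolve_left fun h =>
    hxy (smul_left_cancel _ (hzx.trans h.symm))
  have hk' : n * k * n⁻¹ ∈ S := hconj ▸ Subgroup.smul_mem_pointwise_smul k (MulAut.conj n) K hk
  obtain ⟨j, hj, hjk⟩ := hk'
  have hjk' : (c : G) * j * (c : G)⁻¹ = n * k * n⁻¹ := hjk
  have e : k * (n⁻¹ * (c : G)) = n⁻¹ * c * j := by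
    calc k * (n⁻¹ * (c : G)) = n⁻¹ * (n * k * n⁻¹) * c := by group
      _ = n⁻¹ * c * j := by rw [← hjk']; group
  rw [smul_smul, e, mul_smul, (mem_pairStab.1 (hK hj)).2]

end CfsgLib.SuzukiU
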